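import Groth.Agent.CurvesA.ArtinSchreier
import Groth.Agent.Sga67.QLinear
import Groth.Prelude.Def_Coh

/-!
# Finiteness of `H^q(X, ℤ/p)` in characteristic `p` from finiteness of `H^q(X, G_a)`
-/

set_option autoImplicit false
universe u v

open CategoryTheory CategoryTheory.Limits AlgebraicGeometry Opposite

namespace Groth.Agent.Etbase.AsFin

section algebra

/-- The fixed vectors of a `p`-semilinear endomorphism of a finite dimensional vector space form a
finite set. -/
theorem finite_fixed {k : Type u} [Field k] {V : Type v} [AddCommGroup V] [Module k V]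
    [FiniteDimensional k V] (p : ℕ) (hp : 1 < p) (Φ : V →+ V)
    (hΦ : ∀ (c : k) (v : V), Φ (c • v) = c ^ p • Φ v) : {v : V | Φ v = v}.Finite := by
  classical
  obtain ⟨b, hbS, hspan, hli⟩ := exists_linearIndependent k {v : V | Φ v = v}
  have hbfin : b.Finite := hli.setFinite
  have : Fintype b := hbfin.fintype
  have hroots : {c : k | c ^ p = c}.Finite := by
    have hne : (Polynomial.X ^ p - Polynomial.X : Polynomial k) ≠ 0 :=
      FiniteField.X_pow_card_sub_X_ne_zero k hp
    refine ((Polynomial.X ^ p - Polynomial.X : Polynomial k).roots.toFinset.finite_toSet).subset ?_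
    intro c hc
    simp only [Finset.mem_coe, Multiset.mem_toFinset]
    rw [Polynomial.mem_roots hne, Polynomial.IsRoot.def]
    simp [show c ^ p = c from hc]
  have : Finite {c : k | c ^ p = c} := hroots
  -- every fixed vector is a combination of elements of `b` with fixed coefficients
  have key : {v : V | Φ v = v} ⊆ Set.range
      (fun c : b → {c : k | c ^ p = c} => ∑ i : b, (c i : k) • (i : V)) := by
    intro v hv
    have hmem : v ∈ Submodule.span k (Set.range (fun i : b => (i : V))) := by
      rw [Subtype.range_coe, hspan]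
      exact Submodule.subset_span hv
    rw [Submodule.mem_span_range_iff_exists_fun] at hmem
    obtain ⟨c, hc⟩ := hmem
    have h1 : Φ v = ∑ i : b, (c i) ^ p • (i : V) := by
      rw [← hc, map_sum]
      refine Finset.sum_congr rfl fun i _ => ?_
      rw [hΦ]
      rw [show Φ (i : V) = i from hbS i.2]
    have h2 : ∑ i : b, ((c i) ^ p - c i) • (i : V) = 0 := by
      simp only [sub_smul, Finset.sum_sub_distrib]
      rw [← h1, hc, show Φ v = v from hv, sub_self]
    have h3 := Fintype.linearIndependent_iff.mp hli _ h2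
    exact ⟨fun i => ⟨c i, sub_eq_zero.mp (h3 i)⟩, hc⟩
  exact (Set.finite_range _).subset key

end algebra

section etale

variable (X : Scheme.{u}) (p : ℕ)

/-- restriction of global functions -/
noncomputable def res (U : X.Etale) : Γ(X, ⊤) →+* Γ(U.left, ⊤) := (U.hom.appTop).hom

theorem res_map {U V : X.Etale} (f : V ⟶ U) (c : Γ(X, ⊤)) :
    (f.left.appTop).hom (res X U c) = res X V c := by
  have hw : f.left ≫ U.hom = V.hom := Over.w f.hom
  have h1 : V.hom.appTop = U.hom.appTop ≫ f.left.appTop := by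
    rw [← hw, Scheme.Hom.comp_appTop]
  change _ = (V.hom.appTop).hom c
  rw [h1]
  rfl

/-- Multiplication by a global function on `G_a`. -/
noncomputable def gaMul (c : Γ(X, ⊤)) : EtCoh.Ga X ⟶ EtCoh.Ga X where
  hom :=
    { app := fun U => AddCommGrpCat.ofHom
        ((AddEquiv.ulift.symm.toAddMonoidHom.comp
          (AddMonoidHom.mulLeft (res X U.unop c))).comp
            AddEquiv.ulift.toAddMonoidHom :
              ULift.{u + 1} Γ(U.unop.left, ⊤) →+ ULift.{u + 1} Γ(U.unop.left, ⊤))
      naturality := by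
        intro U V f
        ext s
        apply ULift.ext
        let t : Γ(U.unop.left, ⊤) := s.down
        change res X V.unop c * (f.unop.left.appTop).hom t =
          (f.unop.left.appTop).hom (res X U.unop c * t)
        rw [map_mul, res_map] }

theorem gaMul_app (c : Γ(X, ⊤)) (U : X.Etale) (s : ULift.{u + 1} Γ(U.left, ⊤)) :
    (gaMul X c).hom.app (op U) s = (ULift.up (res X U c * s.down) :
      ULift.{u + 1} Γ(U.left, ⊤)) := rfl

variable [hp : Fact p.Prime]

/-- Frobenius on `G_a`. -/
noncomputable def frobMap (h : (p : Γ(X, ⊤)) = 0) : EtCoh.Ga X ⟶ EtCoh.Ga X :=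
  CurvesA.ArtinSchreier.asMap X p h + 𝟙 _

theorem frobMap_app (h : (p : Γ(X, ⊤)) = 0) (U : X.Etale) (s : ULift.{u + 1} Γ(U.left, ⊤)) :
    (frobMap X p h).hom.app (op U) s = (ULift.up (s.down ^ p) : ULift.{u + 1} Γ(U.left, ⊤)) := by
  have h1 : (frobMap X p h).hom.app (op U) s =
    ((ULift.up (s.down ^ p - s.down) : ULift.{u + 1} Γ(U.left, ⊤)) + s :
      ULift.{u + 1} Γ(U.left, ⊤)) := rfl
  rw [h1]
  apply ULift.ext
  change (s.down ^ p - s.down) + s.down = s.down ^ p
  rw [sub_add_cancel]

theorem gaMul_frobMap (h : (p : Γ(X, ⊤)) = 0) (c : Γ(X, ⊤)) :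
    gaMul X c ≫ frobMap X p h = frobMap X p h ≫ gaMul X (c ^ p) := by
  apply Sheaf.hom_ext
  ext U s
  have h1 : (gaMul X c ≫ frobMap X p h).hom.app U s =
    (frobMap X p h).hom.app U ((gaMul X c).hom.app U s) := rfl
  have h2 : (frobMap X p h ≫ gaMul X (c ^ p)).hom.app U s =
    (gaMul X (c ^ p)).hom.app U ((frobMap X p h).hom.app U s) := rfl
  refine h1.trans (Eq.trans ?_ h2.symm)
  refine (congrArg ((frobMap X p h).hom.app U) (gaMul_app X c U.unop s)).trans ?_
  refine Eq.trans ?_ (congrArg ((gaMul X (c ^ p)).hom.app U) (frobMap_app X p h U.unop s)).symm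
  refine (frobMap_app X p h U.unop _).trans ?_
  refine Eq.trans ?_ (gaMul_app X (c ^ p) U.unop _).symm
  apply ULift.ext
  let t : Γ(U.unop.left, ⊤) := s.down
  change (res X U.unop c * t) ^ p = res X U.unop (c ^ p) * t ^ p
  rw [mul_pow, map_pow]

/-- The map induced by `ℤ/p → G_a` on cohomology is injective as soon as `F - 1` is surjective in the
previous degree. -/
theorem injective_H_map (h : (p : Γ(X, ⊤)) = 0) (n : ℕ)
    (hs : ∀ m, m + 1 = n →
      Function.Surjective (Sheaf.H.map (CurvesA.ArtinSchreier.asMap X p h) m :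
        EtCoh.H X (EtCoh.Ga X) m →+ _)) :
    Function.Injective (Sheaf.H.map (CurvesA.ArtinSchreier.constMap X p h) n :
      EtCoh.H X (EtCoh.const X (ZMod p)) n →+ EtCoh.H X (EtCoh.Ga X) n) := by
  obtain _ | m := n
  · exact Abelian.Ext.postcomp_mk₀_injective_of_mono _ (CurvesA.ArtinSchreier.constMap X p h)
  · refine (injective_iff_map_eq_zero _).2 fun x hx => ?_
    obtain ⟨x₃, hx₃⟩ := Abelian.Ext.covariant_sequence_exact₁ _
      (CurvesA.ArtinSchreier.shortExact X p h) x hx rfl
    obtain ⟨y, rfl⟩ := hs m rfl x₃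
    rw [← hx₃, Sheaf.H.map_apply, Abelian.Ext.comp_assoc_of_second_deg_zero,
      (CurvesA.ArtinSchreier.shortExact X p h).comp_extClass, Abelian.Ext.comp_zero]

/-- **Artin–Schreier**: if the cohomology of `G_a` is finite dimensional over an algebraically
closed field, then the cohomology of `ℤ/p` is finite. -/
theorem finite_H {k : Type u} [Field k] [IsAlgClosed k] [CharP k p] (α : k →+* Γ(X, ⊤))
    (V : ℕ → Type v) [∀ n, AddCommGroup (V n)] [∀ n, Module k (V n)]
    [∀ n, FiniteDimensional k (V n)]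
    (e : ∀ n, V n ≃+ EtCoh.H X (EtCoh.Ga X) n)
    (he : ∀ (n : ℕ) (c : k) (v : V n), e n (c • v) = Sheaf.H.map (gaMul X (α c)) n (e n v)) (q : ℕ) :
    Finite (EtCoh.H X (EtCoh.const X (ZMod p)) q) := by
  have h : (p : Γ(X, ⊤)) = 0 := by
    rw [← map_natCast α p, CharP.cast_eq_zero k p, map_zero]
  -- the Frobenius on `V n`
  let Φ : ∀ n, V n →+ V n := fun n =>
    (e n).symm.toAddMonoidHom.comp
      ((Sheaf.H.map (frobMap X p h) n : EtCoh.H X (EtCoh.Ga X) n →+ _).comp (e n).toAddMonoidHom)
  have hΦe : ∀ n v, e n (Φ n v) = Sheaf.H.map (frobMap X p h) n (e n v) := fun n v =>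
    (e n).apply_symm_apply _
  have hΦ : ∀ (n : ℕ) (c : k) (v : V n), Φ n (c • v) = c ^ p • Φ n v := by
    intro n c v
    apply (e n).injective
    rw [hΦe, he, he, hΦe, map_pow, ← Sheaf.H.map_comp_apply, ← Sheaf.H.map_comp_apply,
      gaMul_frobMap]
  have hfrob : ∀ n (x : EtCoh.H X (EtCoh.Ga X) n), Sheaf.H.map (frobMap X p h) n x =
      Sheaf.H.map (CurvesA.ArtinSchreier.asMap X p h) n x + x := by
    intro n x
    rw [frobMap, Sheaf.H.map_add_apply, Sheaf.H.map_id_apply]
  have hsurj : ∀ m, Function.Surjective (Sheaf.H.map (CurvesA.ArtinSchreier.asMap X p h) m :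
        EtCoh.H X (EtCoh.Ga X) m →+ _) := by
    intro m y
    obtain ⟨v, hv⟩ := Groth.Agent.Sga67.QLinear.sub_surjective k p (CharP.cast_eq_zero k p) (V m)
      (Φ m) (hΦ m) ((e m).symm (-y))
    refine ⟨e m v, ?_⟩
    have h1 := congrArg (e m) hv
    simp only [map_sub, AddEquiv.apply_symm_apply, hΦe, hfrob] at h1
    rw [sub_add_cancel_right] at h1
    exact neg_injective h1
  have hinj := injective_H_map X p h q (fun m _ => hsurj m)
  have hfix : ∀ x : EtCoh.H X (EtCoh.const X (ZMod p)) q,
      Φ q ((e q).symm (Sheaf.H.map (CurvesA.ArtinSchreier.constMap X p h) q x)) =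
        (e q).symm (Sheaf.H.map (CurvesA.ArtinSchreier.constMap X p h) q x) := by
    intro x
    apply (e q).injective
    rw [hΦe, AddEquiv.apply_symm_apply, hfrob]
    have h2 : Sheaf.H.map (CurvesA.ArtinSchreier.asMap X p h) q
        (Sheaf.H.map (CurvesA.ArtinSchreier.constMap X p h) q x) = 0 := by
      rw [← Sheaf.H.map_comp_apply, CurvesA.ArtinSchreier.constMap_comp_asMap, Sheaf.H.map_apply,
        Abelian.Ext.mk₀_zero, Abelian.Ext.comp_zero]
    rw [h2, zero_add]
  have hfin : Finite {v : V q | Φ q v = v} :=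
    finite_fixed p hp.out.one_lt (Φ q) (hΦ q)
  refine Finite.of_injective (fun x : EtCoh.H X (EtCoh.const X (ZMod p)) q =>
    (⟨(e q).symm (Sheaf.H.map (CurvesA.ArtinSchreier.constMap X p h) q x), hfix x⟩ :
      {v : V q | Φ q v = v})) ?_
  intro x y hxy
  exact hinj ((e q).symm.injective (congrArg Subtype.val hxy))

end etale

end Groth.Agent.Etbase.AsFin
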