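import Groth.Agent.Etbase.ExtCompare

/-!
# Comparison of Ext groups along an exact functor, II

`cmp₂ L a e n : Ext X Y n →+ Ext X' F n` for `a : X' ⟶ L X`, `e : L Y ⟶ F`.
-/

set_option autoImplicit false

universe w w' v v' u u'

open CategoryTheory CategoryTheory.Limits CategoryTheory.Abelian

namespace Groth.Agent.Etbase.ExtCompare

variable {B : Type u} [Category.{v} B] [Abelian B] {A : Type u'} [Category.{v'} A] [Abelian A]
  (L : B ⥤ A) [L.Additive] [PreservesFiniteLimits L] [PreservesFiniteColimits L]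
  [HasExt.{w} B] [HasExt.{w'} A]

/-- The comparison map attached to `a : X' ⟶ L X` and `e : L Y ⟶ F`. -/
noncomputable def cmp₂ {X : B} {X' : A} (a : X' ⟶ L.obj X) {Y : B} {F : A} (e : L.obj Y ⟶ F)
    (n : ℕ) : Ext.{w} X Y n →+ Ext.{w'} X' F n :=
  ((Ext.mk₀ a).precomp F (zero_add n)).comp (cmp L X e n)

lemma cmp₂_apply {X : B} {X' : A} (a : X' ⟶ L.obj X) {Y : B} {F : A} (e : L.obj Y ⟶ F)
    (n : ℕ) (x : Ext.{w} X Y n) :
    cmp₂ L a e n x = (Ext.mk₀ a).comp (cmp L X e n x) (zero_add n) := rfl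

lemma cmp₂_apply' {X : B} {X' : A} (a : X' ⟶ L.obj X) {Y : B} {F : A} (e : L.obj Y ⟶ F)
    (n : ℕ) (x : Ext.{w} X Y n) :
    cmp₂ L a e n x = (Ext.mk₀ a).comp ((x.mapExactFunctor L).comp (Ext.mk₀ e) (add_zero n))
      (zero_add n) := rfl

lemma cmp₂_mk₀ {X : B} {X' : A} (a : X' ⟶ L.obj X) {Y : B} {F : A} (e : L.obj Y ⟶ F)
    (f : X ⟶ Y) : cmp₂ L a e 0 (Ext.mk₀ f) = Ext.mk₀ (a ≫ L.map f ≫ e) := by
  rw [cmp₂_apply', Ext.mapExactFunctor_mk₀, Ext.mk₀_comp_mk₀, Ext.mk₀_comp_mk₀]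

/-- Naturality in the second variable. -/
lemma cmp₂_postcomp {X : B} {X' : A} (a : X' ⟶ L.obj X) {Y Y' : B} {F F' : A} (e : L.obj Y ⟶ F)
    (e' : L.obj Y' ⟶ F') (b : Y ⟶ Y') (c : F ⟶ F') (h : L.map b ≫ e' = e ≫ c) (n : ℕ)
    (x : Ext.{w} X Y n) :
    cmp₂ L a e' n (x.comp (Ext.mk₀ b) (add_zero n)) =
      (cmp₂ L a e n x).comp (Ext.mk₀ c) (add_zero n) := by
  rw [cmp₂_apply, cmp_naturality L X e e' b c h, cmp₂_apply, Ext.comp_assoc_of_third_deg_zero]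

/-- Naturality in the first variable. -/
lemma cmp₂_precomp {X₁ X₂ : B} {X₁' X₂' : A} (a₁ : X₁' ⟶ L.obj X₁) (a₂ : X₂' ⟶ L.obj X₂)
    (b : X₁ ⟶ X₂) (b' : X₁' ⟶ X₂') (h : a₁ ≫ L.map b = b' ≫ a₂) {Y : B} {F : A}
    (e : L.obj Y ⟶ F) (n : ℕ) (x : Ext.{w} X₂ Y n) :
    cmp₂ L a₁ e n ((Ext.mk₀ b).comp x (zero_add n)) =
      (Ext.mk₀ b').comp (cmp₂ L a₂ e n x) (zero_add n) := by
  rw [cmp₂_apply', cmp₂_apply', Ext.mapExactFunctor_comp, Ext.mapExactFunctor_mk₀,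
    Ext.comp_assoc_of_third_deg_zero, Ext.mk₀_comp_mk₀_assoc, h, ← Ext.mk₀_comp_mk₀_assoc]

/-- Compatibility with connecting homomorphisms. -/
lemma cmp₂_extClass {X : B} {X' : A} (a : X' ⟶ L.obj X)
    {Y J Y' : B} {i : Y ⟶ J} {p : J ⟶ Y'} {wB : i ≫ p = 0}
    {F I F' : A} {j : F ⟶ I} {q : I ⟶ F'} {wA : j ≫ q = 0}
    (hS : (ShortComplex.mk i p wB).ShortExact) (hT : (ShortComplex.mk j q wA).ShortExact)
    (e : L.obj Y ⟶ F) (eI : L.obj J ⟶ I) (e' : L.obj Y' ⟶ F')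
    (h1 : L.map i ≫ eI = e ≫ j) (h2 : L.map p ≫ e' = eI ≫ q)
    (n : ℕ) (x : Ext.{w} X Y' n) :
    cmp₂ L a e (n + 1) (x.comp hS.extClass rfl) = (cmp₂ L a e' n x).comp hT.extClass rfl := by
  rw [cmp₂_apply, cmp₂_apply, cmp_extClass L X hS hT e eI e' h1 h2]
  exact (Ext.comp_assoc _ _ _ (zero_add n) rfl (by omega)).symm

lemma precomp_bijective {X X' : A} (a : X' ⟶ X) [IsIso a] (F : A) (n : ℕ) :
    Function.Bijective (fun x : Ext.{w'} X F n => (Ext.mk₀ a).comp x (zero_add n)) := by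
  constructor
  · intro x y h
    have := congrArg (fun t => (Ext.mk₀ (inv a)).comp t (zero_add n)) h
    simpa using this
  · intro y
    exact ⟨(Ext.mk₀ (inv a)).comp y (zero_add n), by simp⟩

lemma cmp₂_bijective {X : B} {X' : A} (a : X' ⟶ L.obj X) [IsIso a] {Y : B} {F : A}
    (e : L.obj Y ⟶ F) (n : ℕ) (h : Function.Bijective (cmp.{w, w'} L X e n)) :
    Function.Bijective (cmp₂.{w, w'} L a e n) :=
  (precomp_bijective a F n).comp h

lemma cmp_bijective_of_isIso (X : B) {Y : B} {F : A} (e : L.obj Y ⟶ F) [IsIso e] (n : ℕ)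
    (h : Function.Bijective (L.mapExtAddHom X Y n : Ext.{w} X Y n →+ Ext.{w'} (L.obj X) (L.obj Y) n)) :
    Function.Bijective (cmp.{w, w'} L X e n) := by
  have h2 : Function.Bijective (fun x : Ext.{w'} (L.obj X) (L.obj Y) n =>
      x.comp (Ext.mk₀ e) (add_zero n)) := by
    constructor
    · intro x y h
      have := congrArg (fun t => t.comp (Ext.mk₀ (inv e)) (add_zero n)) h
      simpa using this
    · intro y
      exact ⟨y.comp (Ext.mk₀ (inv e)) (add_zero n), by simp⟩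
  exact h2.comp h

lemma cmp_bijective_comp_iso {X : B} {Y Y' : B} {F : A} (e : L.obj Y ⟶ F) (b : Y' ⟶ Y) [IsIso b]
    (n : ℕ) (h : Function.Bijective (cmp.{w, w'} L X e n)) :
    Function.Bijective (cmp.{w, w'} L X (L.map b ≫ e) n) := by
  have h2 : Function.Bijective (fun x : Ext.{w} X Y' n => x.comp (Ext.mk₀ b) (add_zero n)) := by
    constructor
    · intro x y h
      have := congrArg (fun t => t.comp (Ext.mk₀ (inv b)) (add_zero n)) h
      simpa using this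
    · intro y
      exact ⟨y.comp (Ext.mk₀ (inv b)) (add_zero n), by simp⟩
  have h3 : ⇑(cmp.{w, w'} L X (L.map b ≫ e) n) = ⇑(cmp.{w, w'} L X e n) ∘
      (fun x : Ext.{w} X Y' n => x.comp (Ext.mk₀ b) (add_zero n)) := by
    funext x
    have := cmp_naturality L X (L.map b ≫ e) e b (𝟙 F) (by simp) n x
    simpa using this.symm
  rw [h3]
  exact h.comp h2

end Groth.Agent.Etbase.ExtCompare
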