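import Mathlib.AlgebraicGeometry.Morphisms.Etale
import Mathlib.AlgebraicGeometry.Morphisms.Finite
import Mathlib.AlgebraicGeometry.Morphisms.UniversallyInjective
import Mathlib.AlgebraicGeometry.Morphisms.Proper
import Mathlib.AlgebraicGeometry.Morphisms.IsIso
import Mathlib.AlgebraicGeometry.Morphisms.FlatMono

/-!
# Finite unramified morphisms near a point with trivial fibre

* `spec_field_hom_ext`: two `K`-points of `X` over `S` at `x` agree if `κ(s) → κ(x)` is onto;
* `exists_nhd_isClosedImmersion`, `exists_nhd_isIso`.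
-/

set_option autoImplicit false
set_option backward.isDefEq.respectTransparency.types false
set_option backward.defeqAttrib.useBackward true
open CategoryTheory CategoryTheory.Limits AlgebraicGeometry

namespace Groth.Agent.Etbase.FiniteUnram

universe u

variable {X S : Scheme.{u}} (f : X ⟶ S)

/-- Two `K`-points of `X` over `S` with the same image point `x` agree when the residue field
extension at `x` is trivial. -/
theorem spec_field_hom_ext {K : Type u} [Field K] (g₁ g₂ : Spec (.of K) ⟶ X)
    (hg : g₁ ≫ f = g₂ ≫ f)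
    (hpt : g₁ (IsLocalRing.closedPoint K) = g₂ (IsLocalRing.closedPoint K))
    (hκ : Function.Surjective (f.residueFieldMap (g₁ (IsLocalRing.closedPoint K)))) : g₁ = g₂ := by
  obtain ⟨e, h⟩ := Scheme.SpecToEquivOfField_eq_iff.mp congr((S.SpecToEquivOfField K) $(hg))
  apply (X.SpecToEquivOfField K).injective
  dsimp at e h
  simp only [Scheme.descResidueField_stalkClosedPointTo_comp] at e h
  rw [← f.residueFieldMap_congr'_assoc hpt] at h
  rw [Scheme.SpecToEquivOfField_eq_iff]
  refine ⟨hpt, ?_⟩
  have : Epi (f.residueFieldMap (g₁ (IsLocalRing.closedPoint K))) :=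
    ConcreteCategory.epi_of_surjective _ hκ
  exact (cancel_epi (f.residueFieldMap (g₁ (IsLocalRing.closedPoint K)))).mp h

/-- The points of `X ×[S] X` over `s` are in the diagonal, if the fibre over `s` is one point with
trivial residue field extension. -/
theorem mem_range_diagonal (s : S) (x : X) (hx : f ⁻¹' {s} = {x})
    (hκ : Function.Surjective (f.residueFieldMap x)) (z : ↥(pullback f f))
    (hz : (pullback.fst f f ≫ f) z = s) : z ∈ Set.range (pullback.diagonal f) := by
  let φ := (pullback f f).fromSpecResidueField z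
  have h1 : pullback.fst f f z = x := by
    have : pullback.fst f f z ∈ f ⁻¹' {s} := hz
    rwa [hx] at this
  have h2 : pullback.snd f f z = x := by
    have : pullback.snd f f z ∈ f ⁻¹' {s} := by
      rw [pullback.condition] at hz
      exact hz
    rwa [hx] at this
  have e1 : (φ ≫ pullback.fst f f) (IsLocalRing.closedPoint _) = x := by
    rw [Scheme.Hom.comp_apply, Scheme.fromSpecResidueField_apply, h1]
  have e2 : (φ ≫ pullback.snd f f) (IsLocalRing.closedPoint _) = x := by
    rw [Scheme.Hom.comp_apply, Scheme.fromSpecResidueField_apply, h2]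
  have hφ₁ : φ ≫ pullback.fst f f = φ ≫ pullback.snd f f := by
    have hc : (φ ≫ pullback.fst f f) ≫ f = (φ ≫ pullback.snd f f) ≫ f := by
      rw [Category.assoc, Category.assoc, pullback.condition]
    have hs : Function.Surjective (f.residueFieldMap
        ((φ ≫ pullback.fst f f) (IsLocalRing.closedPoint _))) := by
      rw [e1]; exact hκ
    exact spec_field_hom_ext f (K := (pullback f f).residueField z) _ _ hc (e1.trans e2.symm) hs
  have hφ₂ : φ = (φ ≫ pullback.fst f f) ≫ pullback.diagonal f := by cat_disch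
  refine ⟨(φ ≫ pullback.fst f f) (IsLocalRing.closedPoint _), ?_⟩
  rw [← Scheme.Hom.comp_apply, ← hφ₂, Scheme.fromSpecResidueField_apply]

/-- The main statement. -/
theorem exists_nhd_isClosedImmersion [IsFinite f] [FormallyUnramified f] (s : S) (x : X)
    (hx : f ⁻¹' {s} = {x}) (hκ : Function.Surjective (f.residueFieldMap x)) :
    ∃ U : S.Opens, s ∈ U ∧ IsClosedImmersion (f ∣_ U) := by
  let p : pullback f f ⟶ S := pullback.fst f f ≫ f
  let W : Set ↥(pullback f f) := (Set.range (pullback.diagonal f))ᶜ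
  have hW : IsClosed W := (pullback.diagonal f).isOpenEmbedding.isOpen_range.isClosed_compl
  have hpW : IsClosed (p '' W) := p.isClosedMap _ hW
  let U : S.Opens := ⟨(p '' W)ᶜ, hpW.isOpen_compl⟩
  have hsU : s ∈ U := by
    rintro ⟨z, hz, hzs⟩
    exact hz (mem_range_diagonal f s x hx hκ z hzs)
  refine ⟨U, hsU, ?_⟩
  have huniv : UniversallyInjective (f ∣_ U) := by
    refine ((tfae_universallyInjective (f ∣_ U)).out 0 1 rfl rfl).mpr ?_
    intro K _ g₁ g₂ (hg : g₁ ≫ f ∣_ U = g₂ ≫ f ∣_ U)
    rw [← cancel_mono (f ⁻¹ᵁ U).ι]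
    have hg' : (g₁ ≫ (f ⁻¹ᵁ U).ι) ≫ f = (g₂ ≫ (f ⁻¹ᵁ U).ι) ≫ f := by
      rw [Category.assoc, Category.assoc, ← morphismRestrict_ι, reassoc_of% hg]
    let z : Spec (.of K) ⟶ pullback f f := pullback.lift _ _ hg'
    have hz : Set.range z ⊆ Set.range (pullback.diagonal f) := by
      rintro _ ⟨y, rfl⟩
      by_contra hy
      have h1 : p (z y) ∈ p '' W := ⟨z y, hy, rfl⟩
      have h2 : p (z y) ∈ U := by
        have : z ≫ p = g₁ ≫ f ∣_ U ≫ U.ι := by
          rw [← Category.assoc, pullback.lift_fst, Category.assoc, morphismRestrict_ι]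
        rw [← Scheme.Hom.comp_apply, this, ← Category.assoc, Scheme.Hom.comp_apply]
        exact ((g₁ ≫ f ∣_ U) y).2
      exact h2 h1
    have h3 := IsOpenImmersion.lift_fac (pullback.diagonal f) z hz
    have h4 : z ≫ pullback.fst f f = z ≫ pullback.snd f f := by
      rw [← h3, Category.assoc, Category.assoc, pullback.diagonal_fst, pullback.diagonal_snd]
    rwa [pullback.lift_fst, pullback.lift_snd] at h4
  have hdiag : Surjective (pullback.diagonal (f ∣_ U)) :=
    (UniversallyInjective.iff_diagonal _).mp huniv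
  have hiso : IsIso (pullback.diagonal (f ∣_ U)) := by
    have h1 : FormallyUnramified (f ∣_ U) :=
      MorphismProperty.of_isPullback (isPullback_morphismRestrict f U).flip ‹_›
    exact (isIso_iff_isOpenImmersion_and_surjective _).mpr ⟨inferInstance, hdiag⟩
  have hmono : Mono (f ∣_ U) := (pullback.isIso_diagonal_iff _).mp hiso
  rw [IsClosedImmersion.iff_isFinite_and_mono]
  exact ⟨inferInstance, hmono⟩

theorem exists_nhd_isIso [IsFinite f] [Etale f] (s : S) (x : X)
    (hx : f ⁻¹' {s} = {x}) (hκ : Function.Surjective (f.residueFieldMap x)) :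
    ∃ U : S.Opens, s ∈ U ∧ IsIso (f ∣_ U) := by
  obtain ⟨U, hsU, hU⟩ := exists_nhd_isClosedImmersion f s x hx hκ
  let U' : S.Opens := U ⊓ ⟨Set.range f, f.isOpenMap.isOpen_range⟩
  have hsx : f x = s := by
    have : x ∈ f ⁻¹' {s} := by rw [hx]; rfl
    exact this
  refine ⟨U', ⟨hsU, x, hsx⟩, ?_⟩
  have hle : U' ≤ U := inf_le_left
  have hmono : Mono (f ∣_ U') := by
    refine ⟨fun {Z} g₁ g₂ h ↦ ?_⟩
    have h1 : (g₁ ≫ X.homOfLE (f.preimage_mono hle)) ≫ f ∣_ U =
        (g₂ ≫ X.homOfLE (f.preimage_mono hle)) ≫ f ∣_ U := by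
      rw [← cancel_mono U.ι, Category.assoc, Category.assoc, Category.assoc, Category.assoc,
        morphismRestrict_ι, Scheme.homOfLE_ι_assoc, ← morphismRestrict_ι, reassoc_of% h]
    rw [cancel_mono, cancel_mono] at h1
    exact h1
  have hflat : Flat (f ∣_ U') := inferInstance
  have hqc : QuasiCompact (f ∣_ U') := inferInstance
  have hsurj : Surjective (f ∣_ U') := by
    refine ⟨?_⟩
    rintro ⟨t, ht⟩
    obtain ⟨y, hy⟩ := ht.2
    have hy' : y ∈ f ⁻¹ᵁ U' := by
      change f y ∈ U'
      rw [hy]; exact ht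
    refine ⟨⟨y, hy'⟩, ?_⟩
    apply Subtype.ext
    have h1 : (f ∣_ U' ≫ U'.ι) ⟨y, hy'⟩ = ((f ⁻¹ᵁ U').ι ≫ f) ⟨y, hy'⟩ := by
      rw [morphismRestrict_ι]
    rw [Scheme.Hom.comp_apply, Scheme.Hom.comp_apply] at h1
    exact h1.trans hy
  exact Flat.isIso_of_surjective_of_mono _

end Groth.Agent.Etbase.FiniteUnram
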