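import Groth.Agent.Etbase.FlatStageModule

set_option autoImplicit false
universe u

open TensorProduct

namespace Groth.Agent.Etbase.FlatStageExplicit

section BC

variable {R S ι κ : Type*} [CommRing R] [CommRing S] [Algebra R S] [Fintype ι]

/-- The cokernel of a matrix over `R`. -/
abbrev Cok (R : Type*) {ι κ : Type*} [CommRing R] (k : κ → ι → R) : Type _ :=
  (ι → R) ⧸ Submodule.span R (Set.range k)

/-- coordinatewise algebra map -/
def mapPi (R S : Type*) {ι : Type*} [CommRing R] [CommRing S] [Algebra R S] :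
    (ι → R) →ₗ[R] (ι → S) :=
  (Algebra.linearMap R S).compLeft ι

omit [Fintype ι] in
@[simp] lemma mapPi_apply (v : ι → R) (i : ι) : mapPi R S v i = algebraMap R S (v i) := rfl

/-- The forward map. -/
noncomputable def fwd (k : κ → ι → R) :
    S ⊗[R] Cok R k →ₗ[S] Cok S (fun j => mapPi R S (k j)) :=
  LinearMap.liftBaseChange S <|
    Submodule.liftQ _ (((Submodule.mkQ (Submodule.span S
      (Set.range fun j => mapPi R S (k j)))).restrictScalars R) ∘ₗ mapPi R S) <| by
      rw [Submodule.span_le]
      rintro _ ⟨j, rfl⟩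
      simp only [SetLike.mem_coe, LinearMap.mem_ker, LinearMap.coe_comp, Function.comp_apply,
        LinearMap.coe_restrictScalars]
      exact (Submodule.Quotient.mk_eq_zero _).mpr (Submodule.subset_span ⟨j, rfl⟩)

lemma bwd_aux [DecidableEq ι] (k : κ → ι → R) (v : ι → R) :
    ((Pi.basisFun S ι).constr S fun i =>
      (1 : S) ⊗ₜ[R] (Submodule.Quotient.mk (Pi.single i (1 : R)) : Cok R k)) (mapPi R S v) =
      (1 : S) ⊗ₜ[R] (Submodule.Quotient.mk v : Cok R k) := by
  simp only [Module.Basis.constr_apply_fintype,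
    Pi.basisFun_equivFun, LinearEquiv.refl_apply, mapPi_apply]
  have h1 : ∀ i, algebraMap R S (v i) • ((1 : S) ⊗ₜ[R]
      (Submodule.Quotient.mk (Pi.single i (1 : R)) : Cok R k)) =
      (1 : S) ⊗ₜ[R] (v i • (Submodule.Quotient.mk (Pi.single i (1 : R)) : Cok R k)) := by
    intro i
    rw [TensorProduct.tmul_smul, algebraMap_smul]
  simp_rw [h1]
  rw [← TensorProduct.tmul_sum]
  congr 1
  simp_rw [← Submodule.Quotient.mk_smul, ← Submodule.mkQ_apply]
  rw [← map_sum]
  congr 1
  ext i
  simp [Finset.sum_apply, Pi.single_apply]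

/-- The backward map. -/
noncomputable def bwd [DecidableEq ι] (k : κ → ι → R) :
    Cok S (fun j => mapPi R S (k j)) →ₗ[S] S ⊗[R] Cok R k := by
  refine Submodule.liftQ _ ((Pi.basisFun S ι).constr S fun i =>
    (1 : S) ⊗ₜ[R] (Submodule.Quotient.mk (Pi.single i (1 : R)) : Cok R k)) ?_
  rw [Submodule.span_le]
  rintro _ ⟨j, rfl⟩
  rw [SetLike.mem_coe, LinearMap.mem_ker, bwd_aux,
    (Submodule.Quotient.mk_eq_zero (Submodule.span R (Set.range k))).mpr
      (Submodule.subset_span ⟨j, rfl⟩), TensorProduct.tmul_zero]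

omit [Fintype ι] in
lemma fwd_tmul (k : κ → ι → R) (s : S) (v : ι → R) :
    fwd (S := S) k (s ⊗ₜ[R] (Submodule.Quotient.mk v : Cok R k)) =
      s • (Submodule.Quotient.mk (mapPi R S v) : Cok S (fun j => mapPi R S (k j))) := by
  simp only [fwd, LinearMap.liftBaseChange_tmul]
  rfl

lemma bwd_mk [DecidableEq ι] (k : κ → ι → R) (v : ι → R) :
    bwd (S := S) k (Submodule.Quotient.mk (mapPi R S v) : Cok S (fun j => mapPi R S (k j))) =
      (1 : S) ⊗ₜ[R] (Submodule.Quotient.mk v : Cok R k) := bwd_aux k v

/-- Base change of the cokernel of a matrix. -/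
noncomputable def cokBC [DecidableEq ι] (k : κ → ι → R) :
    S ⊗[R] Cok R k ≃ₗ[S] Cok S (fun j => mapPi R S (k j)) := by
  refine LinearEquiv.ofLinearMap (fwd k) (bwd k) ?_ ?_
  · refine Submodule.linearMap_qext _ ((Pi.basisFun S ι).ext fun i => ?_)
    have h1 : (Pi.basisFun S ι) i = mapPi R S (Pi.single i (1 : R)) := by
      ext j
      simp [Pi.single_apply]
    rw [h1]
    change fwd (S := S) k (bwd (S := S) k (Submodule.Quotient.mk _)) = Submodule.Quotient.mk _
    rw [bwd_mk, fwd_tmul, one_smul]
  · refine LinearMap.ext fun z => ?_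
    induction z using TensorProduct.induction_on with
    | zero => simp
    | add x y hx hy => rw [map_add, hx, hy, map_add]
    | tmul s x =>
      obtain ⟨v, rfl⟩ := Submodule.Quotient.mk_surjective _ x
      rw [LinearMap.comp_apply, fwd_tmul, map_smul, bwd_mk, TensorProduct.smul_tmul', smul_eq_mul,
        mul_one, LinearMap.id_apply]

end BC

section MvPoly

attribute [local instance] MvPolynomial.algebraMvPolynomial

variable {A₀ A : Type*} [CommRing A₀] [CommRing A] [Algebra A₀ A] {σ ι κ : Type*} [Fintype ι]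
  [DecidableEq ι]

/-- Base change of the cokernel of a matrix over a polynomial ring along a map of base rings. -/
noncomputable def cokPolyBC (k : κ → ι → MvPolynomial σ A₀) :
    A ⊗[A₀] Cok (MvPolynomial σ A₀) k ≃ₗ[A]
      Cok (MvPolynomial σ A) (fun j i => MvPolynomial.map (algebraMap A₀ A) (k j i)) :=
  (Algebra.IsPushout.cancelBaseChange A₀ A (MvPolynomial σ A₀) (MvPolynomial σ A)
    (Cok (MvPolynomial σ A₀) k)).symm.trans
    ((cokBC (S := MvPolynomial σ A) k).restrictScalars A)

end MvPoly

lemma adjoin_toSubring {O : Type u} [CommRing O] (C s : Set O) :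
    (Algebra.adjoin (Subring.closure C) s).toSubring = Subring.closure (C ∪ s) := by
  apply le_antisymm
  · intro x hx
    have hx' : x ∈ Algebra.adjoin (Subring.closure C) s := hx
    clear hx
    induction hx' using Algebra.adjoin_induction with
    | mem x hx => exact Subring.subset_closure (Or.inr hx)
    | algebraMap r =>
      have : (r : O) ∈ Subring.closure C := r.2
      exact Subring.closure_mono Set.subset_union_left this
    | add x y hx hy h1 h2 => exact add_mem h1 h2
    | mul x y hx hy h1 h2 => exact mul_mem h1 h2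
  · rw [Subring.closure_le]
    intro x hx
    rcases hx with h | h
    · exact (Algebra.adjoin (Subring.closure C) s).algebraMap_mem
        (⟨x, Subring.subset_closure h⟩ : Subring.closure C)
    · exact Algebra.subset_adjoin (R := Subring.closure C) h

/-- The cokernel of a matrix of polynomials, flat over `O`, comes from a finitely generated subring
containing a given finite set, and is already flat there. -/
theorem exists_subring_flat {O : Type u} [CommRing O] {n r s : ℕ}
    (k : Fin s → Fin r → MvPolynomial (Fin n) O)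
    (hflat : Module.Flat O ((Fin r → MvPolynomial (Fin n) O) ⧸
      Submodule.span (MvPolynomial (Fin n) O) (Set.range k))) (T : Finset O) :
    ∃ (O₀ : Subring O) (S : Finset O) (k₀ : Fin s → Fin r → MvPolynomial (Fin n) O₀),
      O₀ = Subring.closure (S : Set O) ∧ (T : Set O) ⊆ O₀ ∧
      (∀ i j, MvPolynomial.map O₀.subtype (k₀ i j) = k i j) ∧
      Module.Flat O₀ ((Fin r → MvPolynomial (Fin n) O₀) ⧸
        Submodule.span (MvPolynomial (Fin n) O₀) (Set.range k₀)) := by
  classical
  let C : Finset O := T ∪ Finset.univ.biUnion fun j => Finset.univ.biUnion fun i => (k j i).coeffs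
  let R₀ : Subring O := Subring.closure (C : Set O)
  have hcoeff : ∀ j i, k j i ∈ Set.range (MvPolynomial.map (σ := Fin n) (algebraMap R₀ O)) := by
    intro j i
    rw [MvPolynomial.mem_range_map_iff_coeffs_subset]
    intro x hx
    have hx' : x ∈ R₀ := Subring.subset_closure (by
      refine Finset.mem_coe.mpr (Finset.mem_union_right _ ?_)
      exact Finset.mem_biUnion.mpr ⟨j, Finset.mem_univ _, Finset.mem_biUnion.mpr
        ⟨i, Finset.mem_univ _, hx⟩⟩)
    exact ⟨⟨x, hx'⟩, rfl⟩
  choose k₁ hk₁ using hcoeff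
  have e := cokPolyBC (A₀ := R₀) (A := O) k₁
  have hk : (fun j i => MvPolynomial.map (algebraMap R₀ O) (k₁ j i)) = k := by
    funext j i
    exact hk₁ j i
  rw [hk] at e
  have : Module.Flat O (O ⊗[R₀] Cok (MvPolynomial (Fin n) R₀) k₁) :=
    Module.Flat.of_linearEquiv e
  have : Module.FinitePresentation (MvPolynomial (Fin n) R₀) (Cok (MvPolynomial (Fin n) R₀) k₁) := by
    refine Module.finitePresentation_of_surjective (Submodule.mkQ _) (Submodule.mkQ_surjective _) ?_
    rw [Submodule.ker_mkQ]
    exact Submodule.fg_span (Set.finite_range k₁)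
  obtain ⟨s₁, hs₁⟩ := Groth.Agent.Etbase.FlatStageModule.exists_flat_stage (A₀ := R₀) (A := O)
    (MvPolynomial (Fin n) R₀) (Cok (MvPolynomial (Fin n) R₀) k₁)
  have e' := cokPolyBC (A₀ := R₀) (A := Algebra.adjoin R₀ (s₁ : Set O)) k₁
  have hfl : Module.Flat (Algebra.adjoin R₀ (s₁ : Set O)) (Cok (MvPolynomial (Fin n)
      (Algebra.adjoin R₀ (s₁ : Set O))) (fun j i => MvPolynomial.map
        (algebraMap R₀ (Algebra.adjoin R₀ (s₁ : Set O))) (k₁ j i))) :=
    Module.Flat.of_linearEquiv e'.symm
  refine ⟨(Algebra.adjoin R₀ (s₁ : Set O)).toSubring, C ∪ s₁, fun j i => MvPolynomial.map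
        (algebraMap R₀ (Algebra.adjoin R₀ (s₁ : Set O))) (k₁ j i), ?_, ?_, ?_, hfl⟩
  · rw [Finset.coe_union]
    exact adjoin_toSubring _ _
  · intro x hx
    have h : x ∈ R₀ := Subring.subset_closure (Finset.mem_coe.mpr (Finset.mem_union_left _ hx))
    exact (Algebra.adjoin R₀ (s₁ : Set O)).algebraMap_mem (⟨x, h⟩ : R₀)
  · intro j i
    rw [← hk₁ j i]
    exact MvPolynomial.map_map _ _ _

end Groth.Agent.Etbase.FlatStageExplicit
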