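import Groth.Agent.Etbase.ZarEtH
import Groth.Agent.Etbase.GaQC
import Groth.Prelude.Def_Coh

/-!
# The restriction of `G_a` to the Zariski site

* `θ X : ul O_X ⟶ ε_* G_a` (an isomorphism);
* `gaEquiv X n : Coh.HH X (Coh.structureModule X) n ≃+ EtCoh.H X (EtCoh.Ga X) n`;
* `gaEquiv_map`: compatibility with endomorphisms.
-/

set_option autoImplicit false
universe u

open CategoryTheory CategoryTheory.Limits AlgebraicGeometry Opposite TopologicalSpace
  CategoryTheory.Abelian

namespace Groth.Agent.Etbase.GaZar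

open Groth.Agent.Etbase.ZarEt Groth.Agent.Etbase.ExtCompare Groth.Agent.Etbase.EtCartan
  Groth.Agent.CurvesA Groth.Agent.Etbase.ZarEtCmp Groth.Agent.Etbase.SheafULift
  Groth.Agent.Etbase.ZarEtCoh Groth.Agent.Etbase.ZarEtH Groth.Agent.Etbase.GaQC

variable (X : Scheme.{u})

theorem map_comp_eq {Y : TopCat.{u}} (F : (Opens Y)ᵒᵖ ⥤ CommRingCat.{u}) {A B B' D : (Opens Y)ᵒᵖ}
    (a : A ⟶ B) (b : B ⟶ D) (c : A ⟶ B') (d : B' ⟶ D) :
    F.map a ≫ F.map b = F.map c ≫ F.map d := by
  rw [← F.map_comp, ← F.map_comp]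
  exact congrArg F.map (Subsingleton.elim _ _)

theorem topIso_inv_naturality {V W : X.Opens} (e : V ≤ W) (s : Γ(X, W)) :
    (X.homOfLE e).appTop (W.topIso.inv s) = V.topIso.inv (X.presheaf.map (homOfLE e).op s) := by
  have h : W.topIso.inv ≫ (X.homOfLE e).appTop = X.presheaf.map (homOfLE e).op ≫ V.topIso.inv := by
    rw [Scheme.homOfLE_appTop, Scheme.Opens.topIso_inv, Scheme.Opens.topIso_inv]
    exact map_comp_eq X.presheaf _ _ _ _
  exact ConcreteCategory.congr_hom h s

/-- The map `Γ(X, V) → Γ(V, ⊤)` (one universe up). -/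
noncomputable def θV (V : X.Opens) :
    ULift.{u + 1} Γ(X, V) →+ ULift.{u + 1} Γ((V : Scheme.{u}), ⊤) where
  toFun x := ULift.up (V.topIso.inv x.down)
  map_zero' := by
    apply ULift.ext
    exact map_zero V.topIso.inv.hom
  map_add' x y := by
    apply ULift.ext
    exact map_add V.topIso.inv.hom x.down y.down

theorem θV_bijective (V : X.Opens) : Function.Bijective (θV X V) := by
  have h : Function.Bijective V.topIso.inv.hom :=
    (ConcreteCategory.isIso_iff_bijective V.topIso.inv).1 inferInstance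
  exact ULift.up_bijective.comp (h.comp ULift.down_bijective)

/-- The comparison `ul O_X → ε_* G_a`. -/
noncomputable def θ :
    (ulZ X).obj (Coh.toAb (Coh.structureModule X)) ⟶ (EtZar.resZar X).obj (EtCoh.Ga X) where
  hom :=
    { app := fun V => AddCommGrpCat.ofHom (θV X V.unop)
      naturality := by
        intro V W i
        apply AddCommGrpCat.hom_ext
        apply AddMonoidHom.ext
        intro x
        apply ULift.ext
        exact (topIso_inv_naturality X i.unop.le x.down).symm }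

theorem θ_app (V : X.Opens) (s : Γ(X, V)) :
    (θ X).hom.app (op V) (ULift.up s : ULift.{u + 1} Γ(X, V)) =
      (ULift.up (V.topIso.inv s) : ULift.{u + 1} Γ((V : Scheme.{u}), ⊤)) := rfl

instance isIso_θ : IsIso (θ X) := by
  have h : IsIso ((sheafToPresheaf (Opens.grothendieckTopology X) AddCommGrpCat.{u + 1}).map (θ X)) := by
    rw [NatTrans.isIso_iff_isIso_app]
    intro V
    rw [ConcreteCategory.isIso_iff_bijective]
    exact θV_bijective X V.unop
  exact isIso_of_reflects_iso (θ X) (sheafToPresheaf (Opens.grothendieckTopology X) AddCommGrpCat.{u + 1})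

/-- The comparison isomorphism `H^n(X, O_X) ≃ H^n(X_et, G_a)`. -/
noncomputable def gaEquiv (n : ℕ) :
    Coh.HH X (Coh.structureModule X) n ≃+ EtCoh.H X (EtCoh.Ga X) n :=
  AddEquiv.ofBijective (compH (θ X) n) (compH_bijective (θ X) (ga_etAcyc X) n)

/-- Compatible endomorphisms of `O_X` and `G_a`. -/
def Compat (α : Coh.toAb (Coh.structureModule X) ⟶ Coh.toAb (Coh.structureModule X))
    (β : EtCoh.Ga X ⟶ EtCoh.Ga X) : Prop :=
  ∀ (V : X.Opens) (s t : Γ(X, V)), α.hom.app (op V) s = t →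
    β.hom.app (op ((EtZar.zarToEt X).obj V))
      (ULift.up (V.topIso.inv s) : ULift.{u + 1} Γ((V : Scheme.{u}), ⊤)) =
      (ULift.up (V.topIso.inv t) : ULift.{u + 1} Γ((V : Scheme.{u}), ⊤))

theorem Compat.comm {α : Coh.toAb (Coh.structureModule X) ⟶ Coh.toAb (Coh.structureModule X)}
    {β : EtCoh.Ga X ⟶ EtCoh.Ga X} (h : Compat X α β) :
    (ulZ X).map α ≫ θ X = θ X ≫ (EtZar.resZar X).map β := by
  refine sheaf_hom_ext _ fun V s => ?_
  exact (h V s.down _ rfl).symm

theorem gaEquiv_map (α : Coh.toAb (Coh.structureModule X) ⟶ Coh.toAb (Coh.structureModule X))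
    (β : EtCoh.Ga X ⟶ EtCoh.Ga X) (h : Compat X α β) (n : ℕ)
    (x : Coh.HH X (Coh.structureModule X) n) :
    gaEquiv X n (Sheaf.H.map α n x) = Sheaf.H.map β n (gaEquiv X n x) :=
  compH_map (θ X) (θ X) α β h.comm n x

end Groth.Agent.Etbase.GaZar
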