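import Groth.Agent.Etbase.GaZar
import Groth.Agent.Etbase.AsFin

/-!
# Linearity of the comparison `H^n(X, O_X) ≃ H^n(X_et, G_a)`
-/

set_option autoImplicit false
universe u

open CategoryTheory CategoryTheory.Limits AlgebraicGeometry Opposite TopologicalSpace
  CategoryTheory.Abelian

namespace Groth.Agent.Etbase.GaZar

theorem map_eq_comp {Y : TopCat.{u}} (F : (Opens Y)ᵒᵖ ⥤ CommRingCat.{u}) {A B D : (Opens Y)ᵒᵖ}
    (a : A ⟶ B) (b : B ⟶ D) (c : A ⟶ D) : F.map c = F.map a ≫ F.map b := by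
  rw [← F.map_comp]
  exact congrArg F.map (Subsingleton.elim _ _)

variable (X : Scheme.{u})

theorem ι_appTop_eq (V : X.Opens) (r : Γ(X, ⊤)) :
    V.ι.appTop r = V.topIso.inv (X.presheaf.map (homOfLE le_top).op r) := by
  have h : V.ι.appTop = X.presheaf.map (homOfLE (x := V) le_top).op ≫ V.topIso.inv := by
    rw [Scheme.Opens.ι_appTop, Scheme.Opens.topIso_inv]
    exact map_eq_comp X.presheaf _ _ _
  exact ConcreteCategory.congr_hom h r

theorem compat_smul (r : Γ(X, ⊤)) :
    Compat X (Coh.smulAb (Coh.structureModule X) r) (AsFin.gaMul X r) := by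
  intro V s t h
  subst h
  refine (AsFin.gaMul_app X r ((EtZar.zarToEt X).obj V) _).trans ?_
  apply ULift.ext
  change V.ι.appTop.hom r * V.topIso.inv.hom s =
    V.topIso.inv.hom ((X.presheaf.map (homOfLE (le_top (a := V))).op).hom r * s)
  rw [map_mul]
  congr 1
  exact ι_appTop_eq X V r

/-- `H^n(X, O_X) ≃ H^n(X_et, G_a)` is compatible with multiplication by global functions. -/
theorem gaEquiv_smul (r : Γ(X, ⊤)) (n : ℕ) (x : Coh.HH X (Coh.structureModule X) n) :
    gaEquiv X n (Sheaf.H.map (Coh.smulAb (Coh.structureModule X) r) n x) =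
      Sheaf.H.map (AsFin.gaMul X r) n (gaEquiv X n x) :=
  gaEquiv_map X _ _ (compat_smul X r) n x

end Groth.Agent.Etbase.GaZar
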