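import Groth.Agent.Etbase.GabSec

/-!
# Mayer-Vietoris surjectivity from injectivity on `H¹`
-/

set_option autoImplicit false
universe u

open CategoryTheory CategoryTheory.Limits AlgebraicGeometry Opposite CategoryTheory.Abelian

namespace Groth.Agent.Etbase.GabMV

open Groth.Agent.Etcore.SecPull Groth.Agent.Etcore.PullCoh Groth.Agent.Sga4B GabSec StrictHensVanish

/-- On an affine scheme, `D(c) ⊆ D(a) ∪ D(b)` gives `c ^ n = u a + v b`. -/
lemma exists_pow_eq {S : Scheme.{u}} [IsAffine S] (a b c : Γ(S, ⊤))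
    (h : S.basicOpen c ≤ S.basicOpen a ⊔ S.basicOpen b) :
    ∃ (n : ℕ) (u v : Γ(S, ⊤)), u * a + v * b = c ^ (n + 1) := by
  have hJ : c ∈ (Ideal.span {a, b}).radical := by
    rw [Ideal.radical_eq_sInf, Ideal.mem_sInf]
    rintro P ⟨hJP, hP⟩
    by_contra hcP
    let x : S := (isAffineOpen_top S).fromSpec ⟨P, hP⟩
    have hx (r : Γ(S, ⊤)) : x ∈ S.basicOpen r ↔ r ∉ P := by
      have := (isAffineOpen_top S).fromSpec_preimage_basicOpen r
      have h2 : (⟨P, hP⟩ : PrimeSpectrum Γ(S, ⊤)) ∈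
          (isAffineOpen_top S).fromSpec ⁻¹ᵁ S.basicOpen r ↔ r ∉ P := by
        rw [this]
        rfl
      exact h2
    rcases h ((hx c).mpr hcP) with h1 | h1
    · exact (hx a).mp h1 (hJP (Ideal.subset_span (by simp)))
    · exact (hx b).mp h1 (hJP (Ideal.subset_span (by simp)))
  obtain ⟨n, hn⟩ := hJ
  obtain ⟨u, v, h⟩ := Ideal.mem_span_pair.mp hn
  refine ⟨n, c * u, c * v, ?_⟩
  rw [pow_succ, ← h]
  ring

/-- the criterion of Gabber, kernel of `H¹`, in a form with instances removed -/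
def HKer (S : Scheme.{u}) (F : EtCoh.Ab S) : Prop :=
  ∀ (f g : Γ(S, ⊤))
      [PreservesFiniteLimits (EtCoh.pull (S.homOfLE ((S.basicOpen_mul f (f + g)).trans_le inf_le_right)))]
      [PreservesFiniteLimits (EtCoh.pull (S.homOfLE ((S.basicOpen_mul g (f + g)).trans_le inf_le_right)))]
      (ξ : EtCoh.H ↑(S.basicOpen (f + g)) ((EtCoh.pull (S.basicOpen (f + g)).ι).obj F) 1),
      EtCore.HpullVia (S.homOfLE ((S.basicOpen_mul f (f + g)).trans_le inf_le_right)) (S.basicOpen (f + g)).ι (S.basicOpen (f * (f + g))).ι (S.homOfLE_ι ((S.basicOpen_mul f (f + g)).trans_le inf_le_right)) F 1 ξ = 0 →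
      EtCore.HpullVia (S.homOfLE ((S.basicOpen_mul g (f + g)).trans_le inf_le_right)) (S.basicOpen (f + g)).ι (S.basicOpen (g * (f + g))).ι (S.homOfLE_ι ((S.basicOpen_mul g (f + g)).trans_le inf_le_right)) F 1 ξ = 0 →
      ξ = 0

/-- the class of a section restricted to a smaller open on which it lifts -/
lemma restrict_eq_zero {S : Scheme.{u}} {W W' : S.Opens} (h : W' ≤ W)
    [PreservesFiniteLimits (EtCoh.pull (S.homOfLE h))]
    [PreservesFiniteLimits (EtCoh.pull W.ι)]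
    {K : ShortComplex (EtCoh.Ab S)} (hK : K.ShortExact)
    (x : EtCoh.const (W : Scheme.{u}) ℤ ⟶ (EtCoh.pull W.ι).obj K.X₃) (q : EtCoh.sect K.X₃ (opn W))
    (hx : ev x = loc W.ι K.X₃ q) (i : EtCoh.sect K.X₂ (opn W')) (hi : app K.g W' i = res K.X₃ h q) :
    EtCore.HpullVia (S.homOfLE h) W.ι W'.ι (S.homOfLE_ι h) K.X₁ 1
      (Ext.comp (Ext.mk₀ x) (hK.map_of_exact (EtCoh.pull W.ι)).extClass (zero_add 1)) = 0 := by
  have : PreservesFiniteLimits (EtCoh.pull W'.ι) := S0101.result _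
  refine (HpullVia_extClass (S.homOfLE h) W.ι W'.ι (S.homOfLE_ι h) hK 0 (Ext.mk₀ x)).trans ?_
  have h1 := HpullVia_zero (S.homOfLE h) W.ι W'.ι (S.homOfLE_ι h) K.X₃ x
  refine (congrArg (fun k => Ext.comp k (hK.map_of_exact (EtCoh.pull W'.ι)).extClass
    (rfl : 0 + 1 = 0 + 1)) h1).trans ?_
  refine ext_eq_zero W'.ι hK _ i ?_
  have h2 := ev_via (S.homOfLE h) W.ι W'.ι (S.homOfLE_ι h) (opnHom h) rfl K.X₃ x q hx
  rw [h2]
  exact congrArg (loc W'.ι K.X₃) hi.symm

/-- sections lift over `D(c)` if they lift over `D(a)` and `D(b)`. -/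
lemma exists_lift_of_HKer {S : Scheme.{u}} [IsAffine S] {K : ShortComplex (EtCoh.Ab S)}
    (hK : K.ShortExact) (hF : HKer S K.X₁) (a b c : Γ(S, ⊤))
    (hab : S.basicOpen a ⊔ S.basicOpen b = S.basicOpen c)
    (q : EtCoh.sect K.X₃ (opn (S.basicOpen c)))
    (i₁ : EtCoh.sect K.X₂ (opn (S.basicOpen a)))
    (h₁ : app K.g _ i₁ = res K.X₃ (hab.le.trans' le_sup_left) q)
    (i₂ : EtCoh.sect K.X₂ (opn (S.basicOpen b)))
    (h₂ : app K.g _ i₂ = res K.X₃ (hab.le.trans' le_sup_right) q) :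
    ∃ i : EtCoh.sect K.X₂ (opn (S.basicOpen c)), app K.g _ i = q := by
  obtain ⟨n, u, v, huv⟩ := exists_pow_eq a b c hab.ge
  let f := u * a
  let g := v * b
  have e : S.basicOpen (f + g) = S.basicOpen c := by
    change S.basicOpen (u * a + v * b) = _
    rw [huv, S.basicOpen_pow _ (Nat.succ_pos n)]
  have e₁ : S.basicOpen (f * (f + g)) ≤ S.basicOpen a := by
    rw [S.basicOpen_mul, S.basicOpen_mul]
    exact inf_le_left.trans inf_le_right
  have e₂ : S.basicOpen (g * (f + g)) ≤ S.basicOpen b := by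
    rw [S.basicOpen_mul, S.basicOpen_mul]
    exact inf_le_left.trans inf_le_right
  have i1 : PreservesFiniteLimits (EtCoh.pull (S.homOfLE
    ((S.basicOpen_mul f (f + g)).trans_le inf_le_right))) := S0101.result _
  have i2 : PreservesFiniteLimits (EtCoh.pull (S.homOfLE
    ((S.basicOpen_mul g (f + g)).trans_le inf_le_right))) := S0101.result _
  have i3 : PreservesFiniteLimits (EtCoh.pull (S.basicOpen (f + g)).ι) := S0101.result _
  obtain ⟨x, hx⟩ := ev_surjective (loc (S.basicOpen (f + g)).ι K.X₃ (res K.X₃ e.le q))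
  have h := hF f g (Ext.comp (Ext.mk₀ x)
    (hK.map_of_exact (EtCoh.pull (S.basicOpen (f + g)).ι)).extClass (zero_add 1))
    (restrict_eq_zero ((S.basicOpen_mul f (f + g)).trans_le inf_le_right) hK x _ hx
      (res K.X₂ e₁ i₁) (by rw [app_res, h₁, res_res, res_res]))
    (restrict_eq_zero ((S.basicOpen_mul g (f + g)).trans_le inf_le_right) hK x _ hx
      (res K.X₂ e₂ i₂) (by rw [app_res, h₂, res_res, res_res]))
  obtain ⟨i, hi⟩ := exists_lift (S.basicOpen (f + g)).ι hK x _ hx h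
  refine ⟨res K.X₂ e.ge i, ?_⟩
  have hi' : app K.g _ i = res K.X₃ e.le q := hi
  rw [app_res, hi', res_res, res_self]

/-- Mayer-Vietoris surjectivity. -/
lemma mv_of_HKer {S : Scheme.{u}} [IsAffine S] (F : EtCoh.Ab S) (hF : HKer S F) : MV F := by
  intro a b c hab s
  let I := Injective.under F
  let K : ShortComplex (EtCoh.Ab S) := ShortComplex.mk (Injective.ι F) (cokernel.π (Injective.ι F))
    (cokernel.condition _)
  have hK : K.ShortExact := { exact := ShortComplex.exact_cokernel _ }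
  have hs : app K.g _ (app K.f _ s) = 0 := by
    have := congrArg (fun f : K.X₁ ⟶ K.X₃ => app f _ s) K.zero
    exact this
  have hI : Injective K.X₂ := inferInstanceAs (Injective (Injective.under F))
  obtain ⟨j, hj⟩ := Sga4h.InjRestr.surjective_map_of_mono
    (opnHom (inf_le_left : S.basicOpen a ⊓ S.basicOpen b ≤ S.basicOpen a)) K.X₂ (app K.f _ s)
  have hj' : res K.X₂ inf_le_left j = app K.f _ s := hj
  obtain ⟨q, hq₁, hq₂⟩ := exists_glue K.X₃ hab (app K.g _ j) 0 (by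
    rw [← app_res, hj', hs, map_zero])
  obtain ⟨i, hi⟩ := exists_lift_of_HKer hK hF a b c hab q j hq₁.symm 0 (by rw [map_zero, hq₂])
  obtain ⟨s₂, hs₂⟩ := exists_of_app_eq_zero K hK (S.basicOpen b)
    (res K.X₂ (hab.le.trans' le_sup_right) i) (by rw [app_res, hi, hq₂])
  obtain ⟨s₁, hs₁⟩ := exists_of_app_eq_zero K hK (S.basicOpen a)
    (j - res K.X₂ (hab.le.trans' le_sup_left) i) (by rw [map_sub, app_res, hi, hq₁, sub_self])
  refine ⟨s₁, -s₂, ?_⟩
  rw [map_neg, sub_neg_eq_add]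
  have hm : Mono K.f := hK.mono_f
  have hinj : Function.Injective (app K.f (S.basicOpen a ⊓ S.basicOpen b)) := by
    let T : EtCoh.Ab S ⥤ AddCommGrpCat.{u + 1} := sheafToPresheaf _ _ ⋙ (evaluation _ _).obj
      (op (opn (S.basicOpen a ⊓ S.basicOpen b)))
    have : Mono (T.map K.f) := inferInstance
    exact (AddCommGrpCat.mono_iff_injective _).mp this
  apply hinj
  rw [map_add, app_res, app_res, hs₁, hs₂, map_sub, res_res, res_res, hj', sub_add_cancel]

end Groth.Agent.Etbase.GabMV
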