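import Groth.Agent.Etcore.SecPull
import Groth.Agent.Etcore.PullCoh
import Groth.Agent.Sga4B.ExtCmp
import Groth.Agent.S0101
import Groth.Agent.Etbase.StrictHensVanish

/-!
# Sections, degree zero classes, connecting maps and restriction of étale cohomology
-/

set_option autoImplicit false
universe u

open CategoryTheory CategoryTheory.Limits AlgebraicGeometry Opposite CategoryTheory.Abelian

namespace Groth.Agent.Etbase.GabSec

open Groth.Agent.Etcore.SecPull Groth.Agent.Etcore.PullCoh Groth.Agent.Sga4B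

/-- The section attached to a morphism from the constant sheaf `ℤ`. -/
noncomputable def ev {X : Scheme.{u}} {A : EtCoh.Ab X} (x : EtCoh.const X ℤ ⟶ A) :
    EtCoh.sect A (EtCoh.top X) :=
  x.hom.app (op (EtCoh.top X)) (cst X ℤ ⟨1⟩)

lemma ev_comp {X : Scheme.{u}} {A B : EtCoh.Ab X} (x : EtCoh.const X ℤ ⟶ A) (f : A ⟶ B) :
    ev (x ≫ f) = f.hom.app (op (EtCoh.top X)) (ev x) := rfl

lemma cst_eq {X : Scheme.{u}} (m : ULift.{u + 1} ℤ) :
    cst X ℤ m = m.down • cst X ℤ ⟨1⟩ := by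
  have h : m = m.down • (⟨1⟩ : ULift.{u + 1} ℤ) := by
    apply ULift.ext
    change m.down = m.down • 1
    simp
  conv_lhs => rw [h]
  exact map_zsmul ((EtCore.constAdj X).unit.app (AddCommGrpCat.of (ULift.{u + 1} ℤ))).hom _ _

lemma ev_injective {X : Scheme.{u}} {A : EtCoh.Ab X} : Function.Injective (ev (A := A)) := by
  intro x y h
  refine const_hom_ext x y fun m => ?_
  rw [cst_eq m]
  refine (map_zsmul (x.hom.app (op (EtCoh.top X))).hom _ _).trans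
    (Eq.trans ?_ (map_zsmul (y.hom.app (op (EtCoh.top X))).hom _ _).symm)
  exact congrArg (m.down • ·) h

lemma ev_surjective {X : Scheme.{u}} {A : EtCoh.Ab X} : Function.Surjective (ev (A := A)) := by
  intro s
  let g : AddCommGrpCat.of (ULift.{u + 1} ℤ) ⟶ (EtCore.gsec X).obj A :=
    AddCommGrpCat.ofHom ((zmultiplesHom (EtCoh.sect A (EtCoh.top X)) s).comp
      AddEquiv.ulift.toAddMonoidHom)
  refine ⟨((EtCore.constAdj X).homEquiv _ _).symm g, ?_⟩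
  have h := (EtCore.constAdj X).homEquiv_unit (f := ((EtCore.constAdj X).homEquiv _ _).symm g)
  rw [Equiv.apply_symm_apply] at h
  have h1 := congrArg (fun k : AddCommGrpCat.of (ULift.{u + 1} ℤ) ⟶ (EtCore.gsec X).obj A =>
    k.hom ⟨1⟩) h
  refine h1.symm.trans ?_
  change (1 : ℤ) • s = s
  simp

/-- Pulling back degree zero classes is pulling back sections. -/
lemma ev_pull {X Y : Scheme.{u}} (f : X ⟶ Y) {A : EtCoh.Ab Y} (x : EtCoh.const Y ℤ ⟶ A)
    (hq : (f : (EtCoh.top X).left ⟶ (EtCoh.top Y).left) ≫ (EtCoh.top Y).hom =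
      (EtCoh.top X).hom ≫ f) :
    ev ((EtCore.pullConst f ℤ).inv ≫ (EtCoh.pull f).map x) =
      sq f A (V := EtCoh.top Y) (W := EtCoh.top X) f hq (ev x) := by
  have h1 : (EtCore.pullConst f ℤ).inv.hom.app (op (EtCoh.top X)) (cst X ℤ ⟨1⟩) =
      ((EtCoh.pull f).obj (EtCoh.const Y ℤ)).obj.map (liftBC f (V := EtCoh.top Y)
        (W := EtCoh.top X) f hq).op (eta f _ _ (cst Y ℤ ⟨1⟩)) := by
    have h2 := pullConst_unit f ℤ ⟨1⟩
    have h3 := congrArg ((EtCoh.const X ℤ).obj.map (liftBC f (V := EtCoh.top Y)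
        (W := EtCoh.top X) f hq).op) h2
    rw [← map_res, ← res_comp, toTop_ext (liftBC f (V := EtCoh.top Y)
        (W := EtCoh.top X) f hq ≫ toTop _) (𝟙 _), res_id] at h3
    rw [← h3]
    exact congrArg (fun k => k.hom.app (op (EtCoh.top X)) (((EtCoh.pull f).obj (EtCoh.const Y ℤ)).obj.map
      (liftBC f (V := EtCoh.top Y) (W := EtCoh.top X) f hq).op (eta f _ _ (cst Y ℤ ⟨1⟩))))
      (EtCore.pullConst f ℤ).hom_inv_id
  rw [ev_comp]
  change ((EtCoh.pull f).map x).hom.app (op (EtCoh.top X))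
    ((EtCore.pullConst f ℤ).inv.hom.app (op (EtCoh.top X)) (cst X ℤ ⟨1⟩)) = _
  rw [h1, map_res, eta_map]
  rfl

/-- `HpullVia` in degree zero. -/
lemma HpullVia_zero {X Y Z : Scheme.{u}} (f : X ⟶ Y) (t : Y ⟶ Z) (f₀ : X ⟶ Z) (w : f ≫ t = f₀)
    [PreservesFiniteLimits (EtCoh.pull f)] (G : EtCoh.Ab Z)
    (x : EtCoh.const Y ℤ ⟶ (EtCoh.pull t).obj G) :
    EtCore.HpullVia f t f₀ w G 0 (Ext.mk₀ x) =
      Ext.mk₀ (((EtCore.pullConst f ℤ).inv ≫ (EtCoh.pull f).map x) ≫ th f t f₀ w G) := by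
  have h : EtCore.HpullVia f t f₀ w G 0 (Ext.mk₀ x) =
    (((Ext.mk₀ (EtCore.pullConst f ℤ).inv).comp ((Ext.mk₀ x).mapExactFunctor (EtCoh.pull f))
      (zero_add 0)).comp (Ext.mk₀ (th f t f₀ w G)) (add_zero 0)) := rfl
  rw [h, Ext.mapExactFunctor_mk₀, Ext.mk₀_comp_mk₀, Ext.mk₀_comp_mk₀]

lemma comp_aux {C : Type*} [Category* C] [Abelian C] [HasExt C] {A B B' D D' : C} {n : ℕ}
    (y : Ext A B n) (E1 : Ext B D 1) (a1 : Ext D D' 0) (a3 : Ext B B' 0) (E2 : Ext B' D' 1)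
    (h : E1.comp a1 (add_zero 1) = a3.comp E2 (zero_add 1)) :
    (y.comp E1 rfl).comp a1 (add_zero (n + 1)) = (y.comp a3 (add_zero n)).comp E2 rfl := by
  rw [Ext.comp_assoc_of_third_deg_zero, h, ← Ext.comp_assoc_of_second_deg_zero]

/-- `HpullVia` is compatible with connecting maps. -/
lemma HpullVia_extClass {X Y Z : Scheme.{u}} (f : X ⟶ Y) (t : Y ⟶ Z) (f₀ : X ⟶ Z) (w : f ≫ t = f₀)
    [PreservesFiniteLimits (EtCoh.pull f)] [PreservesFiniteLimits (EtCoh.pull t)]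
    [PreservesFiniteLimits (EtCoh.pull f₀)] {K : ShortComplex (EtCoh.Ab Z)} (hK : K.ShortExact)
    (n : ℕ) (x : EtCoh.H Y ((EtCoh.pull t).obj K.X₃) n) :
    EtCore.HpullVia f t f₀ w K.X₁ (n + 1) (Ext.comp x (hK.map_of_exact (EtCoh.pull t)).extClass rfl) =
      Ext.comp (EtCore.HpullVia f t f₀ w K.X₃ n x) (hK.map_of_exact (EtCoh.pull f₀)).extClass rfl := by
  have h1 : EtCore.HpullVia f t f₀ w K.X₁ (n + 1) (Ext.comp x (hK.map_of_exact (EtCoh.pull t)).extClass rfl) =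
    (ExtCmp.cmp (EtCoh.pull f) (EtCore.pullConst f ℤ).inv ((EtCoh.pull t).obj K.X₁) (n + 1)
      (Ext.comp x (hK.map_of_exact (EtCoh.pull t)).extClass rfl)).comp
        (Ext.mk₀ (th f t f₀ w K.X₁)) (add_zero (n + 1)) := rfl
  have h2 : EtCore.HpullVia f t f₀ w K.X₃ n x =
    (ExtCmp.cmp (EtCoh.pull f) (EtCore.pullConst f ℤ).inv ((EtCoh.pull t).obj K.X₃) n x).comp
        (Ext.mk₀ (th f t f₀ w K.X₃)) (add_zero n) := rfl
  have h3 := ExtCmp.cmp_extClass (EtCoh.pull f) (EtCore.pullConst f ℤ).inv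
    (hK.map_of_exact (EtCoh.pull t)) (rfl : n + 1 = n + 1) x
  let S₁ := (K.map (EtCoh.pull t)).map (EtCoh.pull f)
  let S₂ := K.map (EtCoh.pull f₀)
  let φ : S₁ ⟶ S₂ :=
    { τ₁ := th f t f₀ w K.X₁
      τ₂ := th f t f₀ w K.X₂
      τ₃ := th f t f₀ w K.X₃
      comm₁₂ := (th_nat f t f₀ w K.f).symm
      comm₂₃ := (th_nat f t f₀ w K.g).symm }
  have h4 := ShortComplex.ShortExact.extClass_naturality
    ((hK.map_of_exact (EtCoh.pull t)).map_of_exact (EtCoh.pull f)) (hK.map_of_exact (EtCoh.pull f₀)) φ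
  have h5 : (ExtCmp.cmp (EtCoh.pull f) (EtCore.pullConst f ℤ).inv ((EtCoh.pull t).obj K.X₁) (n + 1)
      (Ext.comp x (hK.map_of_exact (EtCoh.pull t)).extClass rfl)) =
      (ExtCmp.cmp (EtCoh.pull f) (EtCore.pullConst f ℤ).inv ((EtCoh.pull t).obj K.X₃) n x).comp
        ((hK.map_of_exact (EtCoh.pull t)).map_of_exact (EtCoh.pull f)).extClass rfl := h3
  rw [h1, h5, h2]
  exact comp_aux _ _ _ _ _ h4

lemma th_sq {X Y Z : Scheme.{u}} (f : X ⟶ Y) (t : Y ⟶ Z) (f₀ : X ⟶ Z) (w : f ≫ t = f₀)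
    (G : EtCoh.Ab Z) {V : Z.Etale} {W : Y.Etale} {W' : X.Etale}
    (q : W.left ⟶ V.left) (hq : q ≫ V.hom = W.hom ≫ t)
    (q' : W'.left ⟶ W.left) (hq' : q' ≫ W.hom = W'.hom ≫ f)
    (q₀ : W'.left ⟶ V.left) (hq₀ : q₀ ≫ V.hom = W'.hom ≫ f₀) (h : q' ≫ q = q₀)
    (s : EtCoh.sect G V) :
    (th f t f₀ w G).hom.app (op W') (sq f ((EtCoh.pull t).obj G) q' hq' (sq t G q hq s)) =
      sq f₀ G q₀ hq₀ s := by
  subst w h
  rw [th, theta_rfl_hom_app]
  have h1 := sq_comp f t G q hq q' hq' hq₀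
  have h2 : sq f ((EtCoh.pull t).obj G) q' hq' (sq t G q hq s) =
    ((EtCore.pullComp f t).hom.app G).hom.app (op W') (sq (f ≫ t) G (q' ≫ q) hq₀ s) :=
    congrArg (fun k => k s) (congrArg (fun k => k.hom) h1)
  rw [h2]
  exact congrArg (fun k => k.hom.app (op W') (sq (f ≫ t) G (q' ≫ q) hq₀ s))
    ((EtCore.pullComp f t).hom_inv_id_app G)

/-- sections over an étale `X`-scheme seen as global sections of the pull back. -/
noncomputable abbrev loc {X Y : Scheme.{u}} (t : Y ⟶ X) [Etale t] (G : EtCoh.Ab X) :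
    G.obj.obj (op (Scheme.Etale.mk t)) ⟶ ((EtCoh.pull t).obj G).obj.obj (op (EtCoh.top Y)) :=
  sq t G (V := Scheme.Etale.mk t) (W := EtCoh.top Y) (𝟙 Y) rfl

instance {X Y : Scheme.{u}} (t : Y ⟶ X) [Etale t] (G : EtCoh.Ab X) : IsIso (loc t G) :=
  sq_isIso_of_etale t G _ _ (inferInstanceAs (IsIso (𝟙 Y)))

lemma loc_bijective {X Y : Scheme.{u}} (t : Y ⟶ X) [Etale t] (G : EtCoh.Ab X) :
    Function.Bijective (loc t G) := ConcreteCategory.bijective_of_isIso _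

lemma loc_nat {X Y : Scheme.{u}} (t : Y ⟶ X) [Etale t] {F G : EtCoh.Ab X} (φ : F ⟶ G)
    (i : EtCoh.sect F (Scheme.Etale.mk t)) :
    loc t G (φ.hom.app (op (Scheme.Etale.mk t)) i) =
      ((EtCoh.pull t).map φ).hom.app (op (EtCoh.top Y)) (loc t F i) :=
  congrArg (fun k => k i) (congrArg (fun k => k.hom) (sq_naturality t φ
        (V := Scheme.Etale.mk t) (W := EtCoh.top Y) (𝟙 Y) rfl))

/-- `HpullVia` of the class of a section. -/
lemma ev_via {X Y Y' : Scheme.{u}} (f : Y' ⟶ Y) (t : Y ⟶ X) (t' : Y' ⟶ X) (w : f ≫ t = t')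
    [Etale t] [Etale t'] (r : Scheme.Etale.mk t' ⟶ Scheme.Etale.mk t) (hr : r.left = f)
    (G : EtCoh.Ab X) (x : EtCoh.const Y ℤ ⟶ (EtCoh.pull t).obj G)
    (s : EtCoh.sect G (Scheme.Etale.mk t)) (hx : ev x = loc t G s) :
    ev (((EtCore.pullConst f ℤ).inv ≫ (EtCoh.pull f).map x) ≫ th f t t' w G) =
      loc t' G (G.obj.map r.op s) := by
  have hq : (f : (EtCoh.top Y').left ⟶ (EtCoh.top Y).left) ≫ (EtCoh.top Y).hom =
      (EtCoh.top Y').hom ≫ f := (Category.comp_id _).trans (Category.id_comp _).symm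
  rw [ev_comp, ev_pull f x hq, hx]
  have hq₀ : ((𝟙 Y' : (EtCoh.top Y').left ⟶ (Scheme.Etale.mk t').left) ≫ r.left) ≫
      (Scheme.Etale.mk t).hom = (EtCoh.top Y').hom ≫ t' := by
    rw [hr]
    refine (Category.assoc _ _ _).trans ?_
    exact congrArg (fun k => 𝟙 Y' ≫ k) w
  have h4 := sq_postcomp t' G (V := Scheme.Etale.mk t') (W := EtCoh.top Y') (𝟙 Y') rfl r hq₀
  have h5 : loc t' G (G.obj.map r.op s) = sq t' G (V := Scheme.Etale.mk t) (W := EtCoh.top Y')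
      (𝟙 Y' ≫ r.left) hq₀ s := congrArg (fun k => k s) (congrArg (fun k => k.hom) h4)
  rw [h5]
  refine th_sq f t t' w G _ _ _ _ _ hq₀ ?_ s
  rw [hr]
  exact (Category.comp_id f).trans (Category.id_comp f).symm

lemma exists_lift_of_ext {C : Type*} [Category* C] [Abelian C] [HasExt C] {S : ShortComplex C}
    (hS : S.ShortExact) {A : C} (x : A ⟶ S.X₃)
    (h : (Ext.mk₀ x).comp hS.extClass (zero_add 1) = 0) : ∃ z : A ⟶ S.X₂, z ≫ S.g = x := by
  obtain ⟨z, hz⟩ := Ext.covariant_sequence_exact₃ _ hS (Ext.mk₀ x) _ h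
  obtain ⟨z, rfl⟩ := Ext.mk₀_bijective _ _ |>.2 z
  refine ⟨z, (Ext.mk₀_bijective _ _).1 ?_⟩
  rw [← hz, Ext.mk₀_comp_mk₀]

lemma ext_eq_zero_of_lift {C : Type*} [Category* C] [Abelian C] [HasExt C] {S : ShortComplex C}
    (hS : S.ShortExact) {A : C} (z : A ⟶ S.X₂) :
    (Ext.mk₀ (z ≫ S.g)).comp hS.extClass (zero_add 1) = 0 := by
  rw [← Ext.mk₀_comp_mk₀, Ext.comp_assoc_of_second_deg_zero, hS.comp_extClass, Ext.comp_zero]

/-- A section of the third sheaf whose class is killed by the connecting map lifts. -/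
lemma exists_lift {X Y : Scheme.{u}} (t : Y ⟶ X) [Etale t] [PreservesFiniteLimits (EtCoh.pull t)]
    {K : ShortComplex (EtCoh.Ab X)} (hK : K.ShortExact)
    (x : EtCoh.const Y ℤ ⟶ (EtCoh.pull t).obj K.X₃) (s : EtCoh.sect K.X₃ (Scheme.Etale.mk t))
    (hx : ev x = loc t K.X₃ s)
    (h : Ext.comp (Ext.mk₀ x) (hK.map_of_exact (EtCoh.pull t)).extClass (zero_add 1) = 0) :
    ∃ i : EtCoh.sect K.X₂ (Scheme.Etale.mk t), K.g.hom.app (op (Scheme.Etale.mk t)) i = s := by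
  obtain ⟨z, hz⟩ := exists_lift_of_ext (hK.map_of_exact (EtCoh.pull t)) x h
  obtain ⟨i, hi⟩ := (loc_bijective t K.X₂).2 (ev z)
  refine ⟨i, (loc_bijective t K.X₃).1 ?_⟩
  rw [loc_nat, hi, ← hx, ← hz]
  rfl

/-- The class of a section which lifts is killed by the connecting map. -/
lemma ext_eq_zero {X Y : Scheme.{u}} (t : Y ⟶ X) [Etale t] [PreservesFiniteLimits (EtCoh.pull t)]
    {K : ShortComplex (EtCoh.Ab X)} (hK : K.ShortExact)
    (x : EtCoh.const Y ℤ ⟶ (EtCoh.pull t).obj K.X₃) (i : EtCoh.sect K.X₂ (Scheme.Etale.mk t))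
    (hx : ev x = loc t K.X₃ (K.g.hom.app (op (Scheme.Etale.mk t)) i)) :
    Ext.comp (Ext.mk₀ x) (hK.map_of_exact (EtCoh.pull t)).extClass (zero_add 1) = 0 := by
  obtain ⟨y, hy⟩ := ev_surjective (loc t K.X₂ i)
  have h1 : x = y ≫ (EtCoh.pull t).map K.g := by
    apply ev_injective
    rw [ev_comp, hy, hx, loc_nat]
  rw [h1]
  exact ext_eq_zero_of_lift (hK.map_of_exact (EtCoh.pull t)) y

end Groth.Agent.Etbase.GabSec
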