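import Mathlib.AlgebraicGeometry.Morphisms.Etale
import Mathlib.AlgebraicGeometry.Morphisms.Finite
import Mathlib.AlgebraicGeometry.Morphisms.Separated
import Mathlib.AlgebraicGeometry.Morphisms.ClosedImmersion
import Mathlib.AlgebraicGeometry.ResidueField
import Mathlib.AlgebraicGeometry.Noetherian
import Mathlib.AlgebraicGeometry.Morphisms.FlatDescent
import Mathlib.AlgebraicGeometry.Morphisms.FinitePresentation
import Mathlib.AlgebraicGeometry.Morphisms.Flat

set_option autoImplicit false
open CategoryTheory CategoryTheory.Limits AlgebraicGeometry Opposite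
universe u

namespace Groth.Agent.Etbase.NoethDescent

/-- Noetherianity descends along faithfully flat ring maps (Stacks 033E). -/
theorem isNoetherianRing_of_faithfullyFlat (R A : Type*) [CommRing R] [CommRing A] [Algebra R A]
    [Module.FaithfullyFlat R A] [IsNoetherianRing A] : IsNoetherianRing R := by
  have h : WellFounded ((· > ·) : Ideal A → Ideal A → Prop) := (isNoetherian_iff (R := A) (M := A)).mp inferInstance
  refine (isNoetherian_iff (R := R) (M := R)).mpr ?_
  refine Subrelation.wf (r := InvImage (· > ·) (Ideal.map (algebraMap R A))) ?_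
    (InvImage.wf _ h)
  intro I J hIJ
  have hinj : Function.Injective (Ideal.map (algebraMap R A) : Ideal R → Ideal A) :=
    Function.LeftInverse.injective (g := Ideal.comap (algebraMap R A))
      (fun I => Ideal.comap_map_eq_self_of_faithfullyFlat I)
  have hlt : J < I := hIJ
  exact lt_of_le_of_ne (Ideal.map_mono hlt.le) (fun h => hlt.ne (hinj h))

/-- A quasi-compact scheme-theoretic reduction: an fppf cover of an affine scheme is dominated by an affine one,
with a local isomorphism to the source. -/
theorem exists_affine_of_fppf {X : Scheme.{u}} {R : CommRingCat.{u}} (f : X ⟶ Spec R) [Surjective f] [Flat f]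
    [LocallyOfFinitePresentation f] : ∃ (A : CommRingCat.{u}) (φ : R ⟶ A) (p : Spec A ⟶ X), IsLocalIso p ∧
      p ≫ f = Spec.map φ ∧ φ.hom.FaithfullyFlat := by
  obtain ⟨(V : X.Opens), hV, e⟩ := f.isOpenMap.exists_opens_image_eq_of_prespectralSpace
    f.continuous (by
      have : Surjective f := inferInstance
      rw [this.surj.range_eq]) isOpen_univ isCompact_univ
  have : CompactSpace V := isCompact_iff_compactSpace.mp hV
  obtain ⟨T, p, h1, h2, h3⟩ := Scheme.exists_hom_isAffine_of_isZariskiLocalAtSource @IsLocalIso (Scheme.Opens.toScheme V)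
  obtain ⟨φ, hφ⟩ := Spec.map_surjective (T.isoSpec.inv ≫ p ≫ V.ι ≫ f)
  refine ⟨Γ(T, ⊤), φ, T.isoSpec.inv ≫ p ≫ V.ι, ?_, by simp [hφ], ?_⟩
  · refine MorphismProperty.comp_mem (W := @IsLocalIso) _ _ ?_ (MorphismProperty.comp_mem (W := @IsLocalIso) _ _ h2 ?_)
    · exact IsZariskiLocalAtSource.of_isOpenImmersion _
    · exact IsZariskiLocalAtSource.of_isOpenImmersion _
  · have : Flat p := IsLocalIso.le_of_isZariskiLocalAtSource @Flat _ _ _ h2
    have : Surjective (V.ι ≫ f) := ⟨fun y ↦ by
      obtain ⟨x, hx, hxy⟩ := e.ge (Set.mem_univ y)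
      exact ⟨⟨x, hx⟩, hxy⟩⟩
    rw [← flat_and_surjective_SpecMap_iff, hφ]
    exact ⟨inferInstance, inferInstance⟩

end Groth.Agent.Etbase.NoethDescent
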