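import Groth.Agent.Etbase.PullUnit

/-!
# Local structure of sections of inverse images of abelian étale sheaves
-/

set_option autoImplicit false
universe u

open CategoryTheory CategoryTheory.Limits AlgebraicGeometry Opposite

namespace Groth.Agent.Etbase.PullUnit2

open EtSections PullUnit

variable {X Y : Scheme.{u}} (f : X ⟶ Y)

/-- Every section of `f⁻¹F` is locally the unit of a section of `F`. -/
theorem exists_locally_unitSect (F : EtCoh.Ab Y) (U : X.Etale)
    (s : EtCoh.sect ((EtCoh.pull f).obj F) U) (x : U.left) :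
    ∃ (V : Y.Etale) (σ : EtCoh.sect F V) (W : X.Etale) (a : W ⟶ U) (b : W ⟶ (EtCoh.bc f).obj V)
      (w : W.left), a.left w = x ∧
      ((EtCoh.pull f).obj F).obj.map a.op s =
        ((EtCoh.pull f).obj F).obj.map b.op (unitSect f F V σ) := by
  obtain ⟨Ω, _, _, ζ, hζ⟩ := EtSections.exists_geometricPoint x
  let ξ : Spec (CommRingCat.of Ω) ⟶ X := ζ ≫ U.hom
  let t : (Scheme.pointSmallEtale ξ).fiber.obj U := Over.homMk ζ rfl
  have ht : fiberPt ξ t = x := hζ
  obtain ⟨γ, hγ⟩ := (ConcreteCategory.bijective_of_isIso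
      ((StalkPull.stalkPullIso f ξ).hom.app F)).2 ((Scheme.pointSmallEtale ξ).toPresheafFiber
        U t ((EtCoh.pull f).obj F).obj s)
  obtain ⟨V, v, σ, rfl⟩ := PointBasics.toPresheafFiber_surj (ξ ≫ f) F.obj γ
  have e1 : (StalkPull.stalkPullIso f ξ).hom.app F
      ((Scheme.pointSmallEtale (ξ ≫ f)).toPresheafFiber V v F.obj σ) =
    (Scheme.pointSmallEtale ξ).toPresheafFiber ((EtCoh.bc f).obj V)
      (StalkPull.fiberEquiv f ξ V v) ((EtCoh.pull f).obj F).obj (unitSect f F V σ) :=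
    ConcreteCategory.congr_hom (toPresheafFiber_unitSect f ξ F V v) σ
  obtain ⟨P, a, b, p, hap, hbp⟩ := exists_common ξ t (StalkPull.fiberEquiv f ξ V v)
  have e2 : (Scheme.pointSmallEtale ξ).toPresheafFiber P p ((EtCoh.pull f).obj F).obj
      (((EtCoh.pull f).obj F).obj.map a.op s) =
      (Scheme.pointSmallEtale ξ).toPresheafFiber U t ((EtCoh.pull f).obj F).obj s := by
    rw [← hap]
    exact GrothendieckTopology.Point.toPresheafFiber_w_apply _ _ _ _ _
  have e3 : (Scheme.pointSmallEtale ξ).toPresheafFiber P p ((EtCoh.pull f).obj F).obj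
      (((EtCoh.pull f).obj F).obj.map b.op (unitSect f F V σ)) =
      (Scheme.pointSmallEtale ξ).toPresheafFiber ((EtCoh.bc f).obj V)
      (StalkPull.fiberEquiv f ξ V v) ((EtCoh.pull f).obj F).obj (unitSect f F V σ) := by
    rw [← hbp]
    exact GrothendieckTopology.Point.toPresheafFiber_w_apply _ _ _ _ _
  have e4 : (Scheme.pointSmallEtale ξ).toPresheafFiber P p ((EtCoh.pull f).obj F).obj
      (((EtCoh.pull f).obj F).obj.map a.op s) =
      (Scheme.pointSmallEtale ξ).toPresheafFiber P p ((EtCoh.pull f).obj F).obj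
      (((EtCoh.pull f).obj F).obj.map b.op (unitSect f F V σ)) := by
    rw [e2, e3, ← e1, hγ]
  obtain ⟨W, g, w, hw, hg⟩ := (PointBasics.toPresheafFiber_eq_iff ξ _ P p _ _).1 e4
  refine ⟨V, σ, W, g ≫ a, g ≫ b, fiberPt ξ w, ?_, ?_⟩
  · have h1 : fiberPt ξ ((Scheme.pointSmallEtale ξ).fiber.map (g ≫ a) w) = fiberPt ξ t := by
      rw [← hap, ← hw]
      rfl
    rw [← ht, ← h1]
    rfl
  · rw [← map_map, ← map_map]
    exact hg

/-- If the unit of `σ` vanishes on `W ⟶ V ×_Y X`, then `σ` vanishes near the image of `W`. -/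
theorem vanishesAt_of_map_unitSect_eq_zero (F : EtCoh.Ab Y) (V : Y.Etale) (σ : EtCoh.sect F V)
    (W : X.Etale) (b : W ⟶ (EtCoh.bc f).obj V)
    (h : ((EtCoh.pull f).obj F).obj.map b.op (unitSect f F V σ) = 0) (w : W.left) :
    ∃ (V' : Y.Etale) (c : V' ⟶ V) (v : V'.left),
      c.left v = (b.left ≫ pullback.fst V.hom f) w ∧ F.obj.map c.op σ = 0 := by
  have h1 : VanishesAt ((EtCoh.pull f).obj F) ((EtCoh.bc f).obj V) (unitSect f F V σ)
      (b.left w) := ⟨W, b, w, rfl, h⟩
  rw [vanishesAt_unitSect_iff] at h1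
  exact h1

theorem exists_locally_unit (F : EtCoh.Ab Y) (U : X.Etale)
    (s : EtCoh.sect ((EtCoh.pull f).obj F) U) (x : U.left) :
    ∃ (V : Y.Etale) (σ : EtCoh.sect F V) (W : X.Etale) (a : W ⟶ U) (b : W ⟶ (EtCoh.bc f).obj V)
      (w : W.left), a.left w = x ∧
      ((EtCoh.pull f).obj F).obj.map a.op s =
        ((EtCoh.pull f).obj F).obj.map b.op
          (((EtCoh.pullPushAdj f).unit.app F).hom.app (op V) σ) :=
  exists_locally_unitSect f F U s x

theorem locally_zero_of_unit_eq_zero (F : EtCoh.Ab Y) (V : Y.Etale) (σ : EtCoh.sect F V)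
    (W : X.Etale) (b : W ⟶ (EtCoh.bc f).obj V)
    (h : ((EtCoh.pull f).obj F).obj.map b.op
      (((EtCoh.pullPushAdj f).unit.app F).hom.app (op V) σ) = 0) (w : W.left) :
    ∃ (V' : Y.Etale) (c : V' ⟶ V) (v : V'.left),
      c.left v = (b.left ≫ pullback.fst V.hom f) w ∧ F.obj.map c.op σ = 0 :=
  vanishesAt_of_map_unitSect_eq_zero f F V σ W b h w

end Groth.Agent.Etbase.PullUnit2
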