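import Mathlib.AlgebraicGeometry.Morphisms.Etale
import Mathlib.AlgebraicGeometry.Morphisms.Finite
import Mathlib.AlgebraicGeometry.Morphisms.Separated
import Mathlib.AlgebraicGeometry.Morphisms.ClosedImmersion
import Mathlib.AlgebraicGeometry.Morphisms.QuasiFinite
import Mathlib.AlgebraicGeometry.ResidueField
import Mathlib.AlgebraicGeometry.Noetherian
import Mathlib.RingTheory.Unramified.LocalStructure

set_option autoImplicit false
open CategoryTheory CategoryTheory.Limits AlgebraicGeometry Opposite
universe u

namespace Groth.Agent.Etbase.Rigidity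

/-- Two maps over `S` into a separated unramified `S`-scheme agree if they agree at all points of a
set that is contained in no proper clopen subset. -/
theorem eq_of_agree {X S Y : Scheme.{u}} (π : X ⟶ S)
    [FormallyUnramified π] [LocallyOfFiniteType π] [IsSeparated π]
    (f g : Y ⟶ X) (hfg : f ≫ π = g ≫ π) (T : Set Y)
    (hT : ∀ U : Set Y, IsClopen U → T ⊆ U → U = Set.univ)
    (hy : ∀ y ∈ T, Y.fromSpecResidueField y ≫ f = Y.fromSpecResidueField y ≫ g) : f = g := by
  obtain ⟨d, hd1, hd2⟩ : ∃ d : Y ⟶ pullback π π, d ≫ pullback.fst π π = f ∧ d ≫ pullback.snd π π = g :=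
    ⟨pullback.lift f g hfg, pullback.lift_fst _ _ _, pullback.lift_snd _ _ _⟩
  obtain ⟨e, he⟩ : ∃ e, e = pullback.snd (pullback.diagonal π) d := ⟨_, rfl⟩
  have : IsOpenImmersion e := by rw [he]; infer_instance
  have : IsClosedImmersion e := by rw [he]; infer_instance
  have hne : T ⊆ Set.range e.base := by
    intro y hyT
    obtain ⟨l, hl⟩ : ∃ l : Spec (Y.residueField y) ⟶ pullback (pullback.diagonal π) d,
        l ≫ pullback.snd (pullback.diagonal π) d = Y.fromSpecResidueField y := by
      refine ⟨pullback.lift (Y.fromSpecResidueField y ≫ f) (Y.fromSpecResidueField y) ?_,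
        pullback.lift_snd _ _ _⟩
      apply pullback.hom_ext
      · rw [Category.assoc, Category.assoc, Category.assoc, pullback.diagonal_fst, hd1, Category.comp_id]
      · rw [Category.assoc, Category.assoc, Category.assoc, pullback.diagonal_snd, hd2, Category.comp_id, hy y hyT]
    rw [← he] at hl
    refine ⟨l.base (IsLocalRing.closedPoint _), ?_⟩
    have : (l ≫ e).base (IsLocalRing.closedPoint _) = y := by
      rw [hl]
      simp
    exact this
  have hcl : IsClopen (Set.range e.base) := ⟨e.isClosedEmbedding.isClosed_range, e.isOpenEmbedding.isOpen_range⟩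
  have huniv : Set.range e.base = Set.univ := hT _ hcl hne
  have : Surjective e := ⟨Set.range_eq_univ.mp huniv⟩
  have : IsIso e := (isIso_iff_isOpenImmersion_and_surjective e).mpr ⟨inferInstance, inferInstance⟩
  have hc := pullback.condition (f := pullback.diagonal π) (g := d)
  rw [← he] at hc
  have h1 : e ≫ f = e ≫ g := by
    rw [← hd1, ← hd2, ← Category.assoc, ← hc, ← Category.assoc, ← hc, Category.assoc, Category.assoc,
      pullback.diagonal_fst, pullback.diagonal_snd]
  exact (cancel_epi e).mp h1

/-- Unramified morphisms are locally quasi-finite. -/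
theorem locallyQuasiFinite_of_unramified {X S : Scheme.{u}} (π : X ⟶ S)
    [FormallyUnramified π] [LocallyOfFiniteType π] : LocallyQuasiFinite π := by
  refine ⟨fun {U} hU {V} hV e => ?_⟩
  have h1 := π.formallyUnramified_appLE hU hV e
  have h2 := π.finiteType_appLE hU hV e
  algebraize [(π.appLE U V e).hom]
  rw [← RingHom.algebraMap_toAlgebra (π.appLE U V e).hom, RingHom.quasiFinite_algebraMap]
  infer_instance

/-- A rational point of a `K`-scheme is determined by its image point. -/
theorem section_ext {K : Type u} [Field K] {P : Scheme.{u}} (q : P ⟶ Spec (.of K))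
    (s₁ s₂ : Spec (.of K) ⟶ P) (h₁ : s₁ ≫ q = 𝟙 _) (h₂ : s₂ ≫ q = 𝟙 _)
    (h : s₁ (IsLocalRing.closedPoint K) = s₂ (IsLocalRing.closedPoint K)) : s₁ = s₂ := by
  obtain ⟨⟨x, a⟩, rfl⟩ := (Scheme.SpecToEquivOfField K P).symm.surjective s₁
  obtain ⟨⟨y, b⟩, rfl⟩ := (Scheme.SpecToEquivOfField K P).symm.surjective s₂
  obtain rfl : x = y := by simpa [Scheme.SpecToEquivOfField] using h
  obtain ⟨c, hc⟩ := Spec.map_surjective (P.fromSpecResidueField x ≫ q)
  simp only [Scheme.SpecToEquivOfField, Equiv.coe_fn_symm_mk, Category.assoc] at h₁ h₂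
  rw [← hc, ← Spec.map_comp, ← Spec.map_id, Spec.map_inj] at h₁ h₂
  have h3 : a ≫ c = 𝟙 _ := by
    have ha : Function.Injective a.hom := a.hom.injective
    ext z
    apply ha
    have := congr($h₁ (a z))
    simpa using this
  have : a = b := by
    rw [← Category.comp_id a, ← h₂, ← Category.assoc, h3, Category.id_comp]
  rw [this]

/-- A `K`-point of `S` has finitely many lifts along an unramified quasi-compact morphism. -/
theorem finite_lifts_field {K : Type u} [Field K] {X S : Scheme.{u}} (π : X ⟶ S)
    [FormallyUnramified π] [LocallyOfFiniteType π] [QuasiCompact π]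
    (t : Spec (.of K) ⟶ S) : {g : Spec (.of K) ⟶ X | g ≫ π = t}.Finite := by
  have : FormallyUnramified (pullback.snd π t) := MorphismProperty.pullback_snd (P := @FormallyUnramified) _ _ inferInstance
  have := locallyQuasiFinite_of_unramified (pullback.snd π t)
  have hfin : Finite ↥(pullback π t) := by
    have := (pullback.snd π t).finite_preimage_singleton (IsLocalRing.closedPoint K)
    rw [← Set.finite_univ_iff]
    refine this.subset fun x _ => ?_
    simp only [Set.mem_preimage, Set.mem_singleton_iff]
    exact Subsingleton.elim (α := PrimeSpectrum K) _ _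
  rw [← Set.finite_coe_iff]
  let F : {g : Spec (.of K) ⟶ X | g ≫ π = t} → ↥(pullback π t) := fun g =>
    (pullback.lift g.1 (𝟙 _) (by rw [Category.id_comp]; exact g.2)) (IsLocalRing.closedPoint K)
  refine Finite.of_injective F fun g₁ g₂ h => ?_
  have := section_ext (pullback.snd π t) _ _ (pullback.lift_snd _ _ _) (pullback.lift_snd _ _ _) h
  have h2 := congrArg (· ≫ pullback.fst π t) this
  simp only [pullback.lift_fst] at h2
  exact Subtype.ext h2

end Groth.Agent.Etbase.Rigidity
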