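import Mathlib.Algebra.Category.Grp.Ulift
import Mathlib.CategoryTheory.Sites.PreservesSheafification
import Mathlib.CategoryTheory.Abelian.GrothendieckCategory.EnoughInjectives
import Mathlib.CategoryTheory.Abelian.GrothendieckAxioms.Sheaf
import Mathlib.Algebra.Homology.DerivedCategory.Ext.MapBijective
import Groth.Agent.CurvesA.SiteZU

/-!
# Universe lift of abelian sheaves on a small site

`C` is a small category with a topology `J`.
`UL J : Sheaf J AddCommGrpCat.{u} ⥤ Sheaf J AddCommGrpCat.{u + 1}` is exact, fully faithful, and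
preserves injective objects; hence it induces bijections on all `Ext` groups.
-/

set_option autoImplicit false
universe u

open CategoryTheory CategoryTheory.Limits Opposite CategoryTheory.Abelian

namespace Groth.Agent.Etbase.SheafULift

open Groth.Agent.CurvesA

variable {C : Type u} [Category.{u} C] (J : GrothendieckTopology C)

/-- The universe lift for abelian groups. -/
abbrev ul : AddCommGrpCat.{u} ⥤ AddCommGrpCat.{u + 1} := AddCommGrpCat.uliftFunctor.{u + 1, u}

instance hasSheafCompose_ul : J.HasSheafCompose ul.{u} := inferInstance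

/-- The universe lift for abelian sheaves. -/
noncomputable abbrev UL : Sheaf J AddCommGrpCat.{u} ⥤ Sheaf J AddCommGrpCat.{u + 1} :=
  sheafCompose J ul.{u}

instance full_UL : (UL J).Full := inferInstance

instance faithful_UL : (UL J).Faithful := inferInstance

theorem isSheaf_of_ul (P : Cᵒᵖ ⥤ AddCommGrpCat.{u}) (h : Presheaf.IsSheaf J (P ⋙ ul)) :
    Presheaf.IsSheaf J P := by
  rw [Presheaf.isSheaf_iff_isSheaf_forget J _ (forget AddCommGrpCat.{u}),
    isSheaf_iff_isSheaf_of_type]
  have h1 := Presheaf.isSheaf_comp_of_isSheaf J _ (forget AddCommGrpCat.{u + 1}) h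
  rw [isSheaf_iff_isSheaf_of_type] at h1
  exact (Presieve.isSheaf_comp_uliftFunctor_iff.{u, u + 1} J).1 h1

/-- A presheaf with small sections comes from a presheaf in the smaller universe. -/
noncomputable def shrinkP (F : Cᵒᵖ ⥤ AddCommGrpCat.{u + 1}) [∀ U, Small.{u} (F.obj U)] :
    Cᵒᵖ ⥤ AddCommGrpCat.{u} where
  obj U := AddCommGrpCat.of (Shrink.{u} (F.obj U))
  map {U V} f := AddCommGrpCat.ofHom
    (((Shrink.addEquiv (α := F.obj V)).symm.toAddMonoidHom.comp (F.map f).hom).comp
      (Shrink.addEquiv (α := F.obj U)).toAddMonoidHom)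
  map_id U := by
    ext x
    simp
  map_comp f g := by
    ext x
    simp

/-- The presheaf `shrinkP F` lifts to `F`. -/
noncomputable def shrinkPIso (F : Cᵒᵖ ⥤ AddCommGrpCat.{u + 1}) [∀ U, Small.{u} (F.obj U)] :
    shrinkP F ⋙ ul ≅ F :=
  NatIso.ofComponents (fun U => AddEquiv.toAddCommGrpIso
    (X := AddCommGrpCat.of (ULift.{u + 1} (Shrink.{u} (F.obj U)))) (Y := F.obj U)
    (AddEquiv.ulift.trans (Shrink.addEquiv (α := F.obj U)))) (by
    intro U V f
    ext x
    change (Shrink.addEquiv (α := F.obj V)) ((Shrink.addEquiv (α := F.obj V)).symm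
      ((F.map f).hom ((Shrink.addEquiv (α := F.obj U)) x.down))) = _
    rw [AddEquiv.apply_symm_apply]
    rfl)

theorem exists_UL_iso (F : Sheaf J AddCommGrpCat.{u + 1})
    (h : ∀ U : C, Small.{u} (F.obj.obj (op U))) :
    ∃ F' : Sheaf J AddCommGrpCat.{u}, Nonempty ((UL J).obj F' ≅ F) := by
  have h' : ∀ U : Cᵒᵖ, Small.{u} (F.obj.obj U) := fun U => h U.unop
  have hs : Presheaf.IsSheaf J (shrinkP F.obj) :=
    isSheaf_of_ul J _ ((Presheaf.isSheaf_of_iso_iff (shrinkPIso F.obj)).2 F.property)
  exact ⟨⟨shrinkP F.obj, hs⟩, ⟨(fullyFaithfulSheafToPresheaf J _).preimageIso (shrinkPIso F.obj)⟩⟩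

lemma sheaf_hom_ext {F G : Sheaf J AddCommGrpCat.{u + 1}} {a b : F ⟶ G}
    (h : ∀ (V : C) (s : F.obj.obj (op V)), a.hom.app (op V) s = b.hom.app (op V) s) : a = b := by
  apply Sheaf.hom_ext
  apply NatTrans.ext
  funext V
  apply AddCommGrpCat.hom_ext
  apply AddMonoidHom.ext
  intro s
  exact h V.unop s

section LocBij

variable {J}

theorem isLocallyInjective_ul {P Q : Cᵒᵖ ⥤ AddCommGrpCat.{u}} (f : P ⟶ Q)
    (h : Presheaf.IsLocallyInjective J f) :
    Presheaf.IsLocallyInjective J (Functor.whiskerRight f ul.{u}) where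
  equalizerSieve_mem {X} x y hxy := by
    have h1 : f.app X x.down = f.app X y.down := congrArg ULift.down hxy
    refine J.superset_covering ?_ (h.equalizerSieve_mem x.down y.down h1)
    intro V g hg
    exact congrArg ULift.up hg

theorem isLocallySurjective_ul {P Q : Cᵒᵖ ⥤ AddCommGrpCat.{u}} (f : P ⟶ Q)
    (h : Presheaf.IsLocallySurjective J f) :
    Presheaf.IsLocallySurjective J (Functor.whiskerRight f ul.{u}) where
  imageSieve_mem {X} x := by
    refine J.superset_covering ?_ (h.imageSieve_mem x.down)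
    rintro V g ⟨t, ht⟩
    exact ⟨ULift.up t, congrArg ULift.up ht⟩

end LocBij

variable [HasSheafify J AddCommGrpCat.{u}] [HasSheafify J AddCommGrpCat.{u + 1}]
  [J.WEqualsLocallyBijective AddCommGrpCat.{u}] [J.WEqualsLocallyBijective AddCommGrpCat.{u + 1}]

instance preservesSheafification_ul : J.PreservesSheafification ul.{u} where
  le P Q f hf := by
    have hf' := (J.W_iff_isLocallyBijective f).1 hf
    exact (J.W_iff_isLocallyBijective (Functor.whiskerRight f ul.{u})).2
      ⟨isLocallyInjective_ul f hf'.1, isLocallySurjective_ul f hf'.2⟩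

instance additive_UL : (UL J).Additive where

instance preservesFiniteLimits_UL : PreservesFiniteLimits (UL J) := by
  have h1 : PreservesFiniteLimits (UL J ⋙ sheafToPresheaf J AddCommGrpCat.{u + 1}) :=
    inferInstanceAs (PreservesFiniteLimits (sheafToPresheaf J AddCommGrpCat.{u} ⋙
      (Functor.whiskeringRight Cᵒᵖ _ _).obj ul.{u}))
  exact preservesFiniteLimits_of_reflects_of_preserves (UL J) (sheafToPresheaf J _)

section Epi

variable [J.HasSheafCompose (forget AddCommGrpCat.{u})]
  [J.HasSheafCompose (forget AddCommGrpCat.{u + 1})]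

instance preservesEpimorphisms_UL : (UL J).PreservesEpimorphisms where
  preserves {F G} f hf := by
    rw [← Sheaf.isLocallySurjective_iff_epi'] at hf ⊢
    exact isLocallySurjective_ul f.hom hf

instance preservesHomology_UL : (UL J).PreservesHomology :=
  Functor.preservesHomology_of_preservesEpis_and_kernels _

instance preservesFiniteColimits_UL : PreservesFiniteColimits (UL J) :=
  (((Functor.exact_tfae (UL J)).out 2 3 rfl rfl).1 inferInstance).2

end Epi

section Free

/-- `ℤ[V]` in the big universe to the lift of `ℤ[V]` in the small universe (presheaves). -/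
noncomputable def pzUl (V : C) : SiteZU.PZ.{u + 1, u, u}.obj V ⟶ SiteZU.PZ.{u, u, u}.obj V ⋙ ul :=
  SiteZU.pdesc.{u + 1} (ULift.up (SiteZU.pof.{u} (𝟙 V)))

lemma isIso_pzUl (V : C) : IsIso (pzUl V) := by
  rw [NatTrans.isIso_iff_isIso_app]
  intro W
  rw [ConcreteCategory.isIso_iff_bijective]
  let e0 : ULift.{u + 1} (W.unop ⟶ V) ≃ ULift.{u} (W.unop ⟶ V) := Equiv.ulift.trans Equiv.ulift.symm
  let e : FreeAbelianGroup (ULift.{u + 1} (W.unop ⟶ V)) ≃+
      ULift.{u + 1} (FreeAbelianGroup (ULift.{u} (W.unop ⟶ V))) :=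
    (FreeAbelianGroup.equivOfEquiv e0).trans AddEquiv.ulift.symm
  have h : ((pzUl V).app W).hom = e.toAddMonoidHom := by
    refine FreeAbelianGroup.lift_ext _ _ fun x => ?_
    refine (SiteZU.pdesc_app_pof.{u + 1} _ x.down).trans ?_
    apply ULift.ext
    change (SiteZU.PZ.{u, u, u}.obj V).map x.down.op (SiteZU.pof.{u} (𝟙 V)) = _
    rw [SiteZU.PZ_map_pof, Category.comp_id]
    change _ = FreeAbelianGroup.map e0 (FreeAbelianGroup.of x)
    rw [FreeAbelianGroup.map_of_apply]
    rfl
  change Function.Bijective ⇑((pzUl V).app W).hom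
  rw [h]
  exact e.bijective

/-- `Z_V` in the big universe is the lift of `Z_V`. -/
noncomputable def zuUl (V : C) :
    (SiteZU.ZU.{u + 1} J).obj V ≅ (UL J).obj ((SiteZU.ZU.{u} J).obj V) :=
  haveI := isIso_pzUl V
  (presheafToSheaf J AddCommGrpCat.{u + 1}).mapIso (asIso (pzUl V)) ≪≫
    (sheafComposeNatIso J ul.{u} (sheafificationAdjunction J AddCommGrpCat.{u})
      (sheafificationAdjunction J AddCommGrpCat.{u + 1})).app _

lemma ev_zuUl_hom (V : C) :
    SiteZU.ev.{u + 1} (zuUl J V).hom = (ULift.up (SiteZU.univ.{u} (J := J) V) :) := by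
  have := isIso_pzUl V
  have h1 : SiteZU.ev.{u + 1} ((presheafToSheaf J AddCommGrpCat.{u + 1}).map (pzUl V)) =
      (toSheafify J (SiteZU.PZ.{u, u, u}.obj V ⋙ ul)).app (op V)
        (ULift.up (SiteZU.pof.{u} (𝟙 V))) := by
    have h := congrArg (fun a => a.app (op V) (SiteZU.pof.{u + 1} (𝟙 V)))
      (toSheafify_naturality J (pzUl V))
    refine h.symm.trans ?_
    have h2 := SiteZU.pdesc_app_pof.{u + 1} (P := SiteZU.PZ.{u, u, u}.obj V ⋙ ul)
      (ULift.up (SiteZU.pof.{u} (𝟙 V))) (𝟙 V)
    refine (congrArg (fun t => (toSheafify J (SiteZU.PZ.{u, u, u}.obj V ⋙ ul)).app (op V) t)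
      (h2.trans ?_))
    rw [op_id, CategoryTheory.Functor.map_id]
    rfl
  have h3 := congrArg (fun a => a.app (op V) (ULift.up (SiteZU.pof.{u} (𝟙 V))))
    (sheafComposeNatTrans_fac J ul.{u} (sheafificationAdjunction J AddCommGrpCat.{u})
      (sheafificationAdjunction J AddCommGrpCat.{u + 1}) (SiteZU.PZ.{u, u, u}.obj V))
  refine Eq.trans ?_ (h3.trans ?_)
  · exact (congrArg (fun t => ((sheafComposeNatTrans J ul.{u}
      (sheafificationAdjunction J AddCommGrpCat.{u})
      (sheafificationAdjunction J AddCommGrpCat.{u + 1})).app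
        (SiteZU.PZ.{u, u, u}.obj V)).hom.app (op V) t) h1)
  · rfl

/-- Naturality of `zuUl`. -/
lemma zuUl_naturality {V W : C} (i : V ⟶ W) :
    (SiteZU.ZU.{u + 1} J).map i ≫ (zuUl J W).hom =
      (zuUl J V).hom ≫ (UL J).map ((SiteZU.ZU.{u} J).map i) := by
  apply SiteZU.ev_injective.{u + 1}
  rw [SiteZU.ev_map_comp, SiteZU.ev_comp, ev_zuUl_hom, ev_zuUl_hom]
  exact congrArg ULift.up (SiteZU.ev_map.{u} i).symm

end Free

section Injective

variable [IsGrothendieckAbelian.{u} (Sheaf J AddCommGrpCat.{u})]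

instance hasColimits_sh : HasColimitsOfSize.{u, u} (Sheaf J AddCommGrpCat.{u}) :=
  IsGrothendieckAbelian.hasColimits _

/-- A generator of the category of small abelian sheaves. -/
noncomputable def genSh : Sheaf J AddCommGrpCat.{u} := ∐ fun V : C => (SiteZU.ZU.{u} J).obj V

omit [HasSheafify J AddCommGrpCat.{u + 1}] [J.WEqualsLocallyBijective AddCommGrpCat.{u}]
  [J.WEqualsLocallyBijective AddCommGrpCat.{u + 1}] in
lemma exists_retract (V : C) : ∃ (i : (SiteZU.ZU.{u} J).obj V ⟶ genSh J)
    (p : genSh J ⟶ (SiteZU.ZU.{u} J).obj V), i ≫ p = 𝟙 _ := by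
  classical
  exact ⟨Sigma.ι (fun V : C => (SiteZU.ZU.{u} J).obj V) V,
    Sigma.π (fun V : C => (SiteZU.ZU.{u} J).obj V) V, Sigma.ι_π_eq_id _ _⟩

theorem isSeparator_UL_genSh : IsSeparator ((UL J).obj (genSh J)) := by
  rw [isSeparator_def]
  intro F G f g h
  refine sheaf_hom_ext J fun V s => ?_
  obtain ⟨i, p, hip⟩ := exists_retract J V
  have h1 := h ((UL J).map p ≫ (zuUl J V).inv ≫ SiteZU.lift.{u + 1} s)
  have h2 : (UL J).map i ≫ (UL J).map p = 𝟙 _ := by
    rw [← CategoryTheory.Functor.map_comp, hip, CategoryTheory.Functor.map_id]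
  have h3 : SiteZU.lift.{u + 1} s ≫ f = SiteZU.lift.{u + 1} s ≫ g := by
    have h5 := congrArg (fun t => (zuUl J V).hom ≫ (UL J).map i ≫ t) h1
    simp only [Category.assoc, reassoc_of% h2, Iso.hom_inv_id_assoc] at h5
    exact h5
  have h4 := congrArg SiteZU.ev.{u + 1} h3
  rw [SiteZU.ev_comp, SiteZU.ev_comp, SiteZU.ev_lift] at h4
  exact h4

variable [IsGrothendieckAbelian.{u + 1} (Sheaf J AddCommGrpCat.{u + 1})]

/-- The universe lift of an injective abelian sheaf on a small site is injective. -/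
instance preservesInjectiveObjects_UL : (UL J).PreservesInjectiveObjects where
  injective_obj {I} hI := by
    rw [injective_iff_rlp_monomorphisms_zero,
      ← IsGrothendieckAbelian.generatingMonomorphisms_rlp.{u + 1} (isSeparator_UL_genSh J)]
    rintro _ _ _ ⟨A⟩
    refine ⟨fun {f g} _ => ?_⟩
    have hsm : ∀ V : C, Small.{u} ((A : Sheaf J AddCommGrpCat.{u + 1}).obj.obj (op V)) := by
      intro V
      have : Mono ((sheafToPresheaf J _).map A.arrow) := inferInstance
      have h2 : Mono (A.arrow.hom.app (op V)) :=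
        inferInstanceAs (Mono (((sheafToPresheaf J _).map A.arrow).app (op V)))
      rw [AddCommGrpCat.mono_iff_injective] at h2
      exact small_of_injective (β := ULift.{u + 1} ((genSh J).obj.obj (op V))) h2
    obtain ⟨A', ⟨e⟩⟩ := exists_UL_iso J _ hsm
    let i : A' ⟶ genSh J := (UL J).preimage (e.hom ≫ A.arrow)
    let k : A' ⟶ I := (UL J).preimage (e.hom ≫ f)
    have hi : (UL J).map i = e.hom ≫ A.arrow := (UL J).map_preimage _
    have hk : (UL J).map k = e.hom ≫ f := (UL J).map_preimage _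
    have hmono : Mono i := by
      have : Mono ((UL J).map i) := by
        rw [hi]
        infer_instance
      exact (UL J).mono_of_mono_map this
    refine ⟨⟨{ l := (UL J).map (Injective.factorThru k i), fac_left := ?_, fac_right := ?_ }⟩⟩
    · rw [← cancel_epi e.hom, ← Category.assoc, ← hi, ← Functor.map_comp, Injective.comp_factorThru,
        hk]
    · exact (isZero_zero _).eq_of_tgt _ _

end Injective

section Ext

universe w w'

variable [J.HasSheafCompose (forget AddCommGrpCat.{u})]
  [J.HasSheafCompose (forget AddCommGrpCat.{u + 1})]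
  [IsGrothendieckAbelian.{u} (Sheaf J AddCommGrpCat.{u})]
  [IsGrothendieckAbelian.{u + 1} (Sheaf J AddCommGrpCat.{u + 1})]
  [HasExt.{w} (Sheaf J AddCommGrpCat.{u})] [HasExt.{w'} (Sheaf J AddCommGrpCat.{u + 1})]

/-- The universe lift induces bijections on all `Ext` groups. -/
theorem mapExt_bijective (F G : Sheaf J AddCommGrpCat.{u}) (n : ℕ) :
    Function.Bijective ((UL J).mapExtAddHom F G n :
      Ext.{w} F G n →+ Ext.{w'} ((UL J).obj F) ((UL J).obj G) n) :=
  Functor.mapExt_bijective_of_preservesInjectiveObjects (UL J) F G n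

end Ext

end Groth.Agent.Etbase.SheafULift
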