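import Mathlib.RingTheory.Etale.QuasiFinite
import Mathlib.RingTheory.Unramified.LocalStructure
import Mathlib.RingTheory.Unramified.Field
import Mathlib.RingTheory.LocalRing.Module
import Mathlib.RingTheory.Support
import Mathlib.FieldTheory.IsAlgClosed.AlgebraicClosure

/-!
# Etale local splitting of finite unramified algebras (Stacks 04HJ, algebra form)
-/

set_option autoImplicit false
universe u

open TensorProduct Algebra

namespace Groth.Agent.Etbase.UnramSplit

/-- For one homomorphism `σ : A → Ω` from an unramified algebra to a field there is an étale algebra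
`B` and `β : B → Ω` whose image contains the image of `σ`. -/
theorem exists_etale_hom_range_single {R A Ω : Type u} [CommRing R] [CommRing A] [Field Ω]
    [Algebra R A] [Algebra R Ω] [Algebra.FiniteType R A] [Algebra.FormallyUnramified R A]
    (σ : A →ₐ[R] Ω) :
    ∃ (B : Type u) (_ : CommRing B) (_ : Algebra R B) (_ : Algebra.Etale R B) (β : B →ₐ[R] Ω),
      ∀ a : A, σ a ∈ β.range := by
  have hq : (RingHom.ker σ).IsPrime := RingHom.ker_isPrime σ
  obtain ⟨f, hf, P, φ, hφ⟩ := Algebra.IsUnramifiedAt.exists_hasStandardEtaleSurjectionOn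
    (R := R) (RingHom.ker σ)
  have hu : IsUnit (σ f) := by
    rw [isUnit_iff_ne_zero]
    simpa [RingHom.mem_ker] using hf
  let σ' : Localization.Away f →ₐ[R] Ω := IsLocalization.liftAlgHom (M := Submonoid.powers f) (f := σ) (by
    rintro ⟨_, n, rfl⟩
    simpa using hu.pow n)
  refine ⟨P.Ring, inferInstance, inferInstance, inferInstance, σ'.comp φ, fun a => ?_⟩
  obtain ⟨b, hb⟩ := hφ (algebraMap _ _ a)
  refine ⟨b, ?_⟩
  simp [hb, σ']

/-- All homomorphisms at once. -/
theorem exists_etale_hom_range {R A Ω : Type u} [CommRing R] [CommRing A] [Field Ω]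
    [Algebra R A] [Algebra R Ω] [Module.Finite R A] [Algebra.FormallyUnramified R A] :
    ∃ (B : Type u) (_ : CommRing B) (_ : Algebra R B) (_ : Algebra.Etale R B) (β : B →ₐ[R] Ω),
      ∀ (σ : A →ₐ[R] Ω) (a : A), σ a ∈ β.range := by
  classical
  suffices H : ∀ s : Finset (A →ₐ[R] Ω), ∃ (B : Type u) (_ : CommRing B) (_ : Algebra R B)
      (_ : Algebra.Etale R B) (β : B →ₐ[R] Ω), ∀ σ ∈ s, ∀ (a : A), σ a ∈ β.range by
    have := Fintype.ofFinite (A →ₐ[R] Ω)
    obtain ⟨B, h1, h2, h3, β, hβ⟩ := H Finset.univ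
    exact ⟨B, h1, h2, h3, β, fun σ => hβ σ (Finset.mem_univ σ)⟩
  intro s
  induction s using Finset.induction_on with
  | empty => exact ⟨R, inferInstance, inferInstance, inferInstance, Algebra.ofId R Ω, by simp⟩
  | insert σ s hσ ih =>
    obtain ⟨B, _, _, _, β, hβ⟩ := ih
    obtain ⟨C, _, _, _, γ, hγ⟩ := exists_etale_hom_range_single σ
    have : Algebra.Etale R (B ⊗[R] C) := Algebra.Etale.comp R B _
    refine ⟨B ⊗[R] C, inferInstance, inferInstance, inferInstance,
      Algebra.TensorProduct.lift β γ (fun _ _ => mul_comm _ _), ?_⟩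
    intro τ hτ a
    rw [Finset.mem_insert] at hτ
    obtain rfl | hτ := hτ
    · obtain ⟨c, hc⟩ := hγ a
      exact ⟨1 ⊗ₜ c, by simpa using hc⟩
    · obtain ⟨c, hc⟩ := hβ τ hτ a
      exact ⟨c ⊗ₜ 1, by simpa using hc⟩

/-- Nakayama: if `D` is finite over `R` and `κ(P) → κ(P) ⊗ D` is surjective then `R → D` is surjective
after inverting some `g ∉ P`. -/
theorem exists_smul_mem_range {R D : Type*} [CommRing R] [CommRing D] [Algebra R D]
    [Module.Finite R D] (P : Ideal R) [P.IsPrime]
    (h : Function.Surjective (algebraMap P.ResidueField (P.Fiber D))) :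
    ∃ g ∉ P, ∀ d : D, ∃ r : R, g • d = algebraMap R D r := by
  let N := D ⧸ LinearMap.range (Algebra.linearMap R D)
  have hN : ¬ Nontrivial (P.ResidueField ⊗[R] N) := by
    rw [not_nontrivial_iff_subsingleton]
    refine subsingleton_of_forall_eq 0 fun y => ?_
    obtain ⟨x, rfl⟩ := LinearMap.lTensor_surjective P.ResidueField
      (Submodule.mkQ_surjective (LinearMap.range (Algebra.linearMap R D))) y
    obtain ⟨k, hk⟩ := h x
    rw [← hk, Algebra.TensorProduct.algebraMap_apply]
    change (LinearMap.lTensor _ _) (_ ⊗ₜ[R] (1 : D)) = 0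
    rw [LinearMap.lTensor_tmul]
    have : (LinearMap.range (Algebra.linearMap R D)).mkQ 1 = 0 := by
      rw [Submodule.mkQ_apply, Submodule.Quotient.mk_eq_zero]
      exact ⟨1, by simp⟩
    rw [this, tmul_zero]
  have h1 := (Module.mem_support_iff_nontrivial_residueField_tensorProduct (M := N)
    (⟨P, inferInstance⟩ : PrimeSpectrum R)).not.mpr hN
  rw [Module.mem_support_iff_of_finite] at h1
  obtain ⟨g, hg, hgP⟩ := SetLike.not_le_iff_exists.mp h1
  refine ⟨g, hgP, fun d => ?_⟩
  have := Module.mem_annihilator.mp hg (Submodule.Quotient.mk d)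
  rw [← Submodule.Quotient.mk_smul, Submodule.Quotient.mk_eq_zero] at this
  obtain ⟨r, hr⟩ := this
  exact ⟨r, by simpa using hr.symm⟩

/-- Let `D` be a finite unramified `R'`-algebra with at most one prime over `P`, and suppose every
`R'`-homomorphism from `D` to an algebraically closed field `Ω` over `κ(P)` has image in the image of
`κ(P)`. Then `κ(P) → κ(P) ⊗ D` is surjective. -/
theorem surjective_fiber {k F Ω : Type u} [Field k] [CommRing F] [Algebra k F] [Module.Finite k F]
    [Algebra.FormallyUnramified k F] [Field Ω] [IsAlgClosed Ω] [Algebra k Ω]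
    (hsub : Subsingleton (PrimeSpectrum F))
    (hτ : ∀ (τ : F →ₐ[k] Ω) (x : F), τ x ∈ (algebraMap k Ω).range) :
    Function.Surjective (algebraMap k F) := by
  cases subsingleton_or_nontrivial F
  · intro x
    exact ⟨0, Subsingleton.elim _ _⟩
  have : IsArtinianRing F := isArtinian_of_tower k inferInstance
  have : IsLocalRing F := by
    refine IsLocalRing.of_unique_max_ideal ?_
    obtain ⟨m, hm⟩ := Ideal.exists_maximal F
    refine ⟨m, hm, fun n hn => ?_⟩
    exact congrArg PrimeSpectrum.asIdeal (Subsingleton.elim (⟨n, hn.isPrime⟩ : PrimeSpectrum F) ⟨m, hm.isPrime⟩)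
  have : IsReduced F := Algebra.FormallyUnramified.isReduced_of_field k F
  have hF : IsField F := IsArtinianRing.isField_of_isReduced_of_isLocalRing F
  let := hF.toField
  let τ : F →ₐ[k] Ω := IsAlgClosed.lift
  intro x
  obtain ⟨y, hy⟩ := hτ τ x
  refine ⟨y, τ.toRingHom.injective ?_⟩
  change τ (algebraMap k F y) = τ x
  rw [← hy, τ.commutes]

/-- the key step -/
theorem key_surj {R A Ω : Type u} [CommRing R] [CommRing A] [Field Ω] [IsAlgClosed Ω]
    [Algebra R A] [Algebra R Ω] [Module.Finite R A] [Algebra.FormallyUnramified R A]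
    (p : Ideal R) [p.IsPrime] (hp : ∀ x, x ∈ p ↔ algebraMap R Ω x = 0)
    (hσ : ∀ (σ : A →ₐ[R] Ω) (a : A), σ a ∈ (algebraMap R Ω).range)
    {R' : Type u} [CommRing R'] [Algebra R R'] (P : Ideal R') [P.IsPrime] [P.LiesOver p]
    (hP : Function.Bijective (Ideal.ResidueField.mapₐ p P (Algebra.ofId _ _) (P.over_def p)))
    {D : Type u} [CommRing D] [Algebra R' D] (π : R' ⊗[R] A →ₐ[R'] D) (hπ : Function.Surjective π)
    (hsub : Subsingleton (PrimeSpectrum (P.Fiber D))) :
    Function.Surjective (algebraMap P.ResidueField (P.Fiber D)) := by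
  have : Module.Finite R' D := Module.Finite.of_surjective π.toLinearMap hπ
  have : Algebra.FormallyUnramified R' D := Algebra.FormallyUnramified.of_surjective π hπ
  -- the `κ(P)`-algebra structure on `Ω`
  let ε : p.ResidueField →ₐ[R] Ω := Ideal.ResidueField.liftₐ p (Algebra.ofId R Ω)
    (fun x hx => by simpa [RingHom.mem_ker, Algebra.ofId_apply] using (hp x).mp hx)
    (by
      intro x hx
      have : algebraMap R Ω x ≠ 0 := fun h => hx ((hp x).mpr h)
      simpa [Submonoid.mem_comap, IsUnit.mem_submonoid_iff, Algebra.ofId_apply] using this)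
  let e := RingEquiv.ofBijective _ hP
  let κΩ : P.ResidueField →+* Ω := ε.toRingHom.comp e.symm.toRingHom
  let : Algebra P.ResidueField Ω := κΩ.toAlgebra
  have hmap : ∀ r : R, algebraMap P.ResidueField Ω (algebraMap R P.ResidueField r) = algebraMap R Ω r := by
    intro r
    change ε (e.symm (algebraMap R P.ResidueField r)) = _
    have : e.symm (algebraMap R P.ResidueField r) = algebraMap R p.ResidueField r := by
      rw [RingEquiv.symm_apply_eq]
      exact ((Ideal.ResidueField.mapₐ p P (Algebra.ofId _ _) (P.over_def p)).commutes r).symm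
    rw [this, ε.commutes]
  refine surjective_fiber (Ω := Ω) hsub fun τ x => ?_
  -- the homomorphism `A → Ω`
  have hcomm : ∀ r' : R', τ ((1 : P.ResidueField) ⊗ₜ[R'] algebraMap R' D r') =
      algebraMap P.ResidueField Ω (algebraMap R' P.ResidueField r') := by
    intro r'
    have : (1 : P.ResidueField) ⊗ₜ[R'] algebraMap R' D r' =
        algebraMap P.ResidueField (P.Fiber D) (algebraMap R' P.ResidueField r') := by
      rw [Algebra.TensorProduct.algebraMap_apply, Algebra.algebraMap_eq_smul_one,
        TensorProduct.tmul_smul, TensorProduct.smul_tmul', ← Algebra.algebraMap_eq_smul_one]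
      rfl
    rw [this, τ.commutes]
  let σ : A →ₐ[R] Ω :=
    { toRingHom := τ.toRingHom.comp ((Algebra.TensorProduct.includeRight : D →ₐ[R'] P.ResidueField ⊗[R'] D).toRingHom.comp
        (π.toRingHom.comp (Algebra.TensorProduct.includeRight : A →ₐ[R] R' ⊗[R] A).toRingHom))
      commutes' := fun r => by
        change τ ((1 : P.ResidueField) ⊗ₜ[R'] π ((1 : R') ⊗ₜ[R] algebraMap R A r)) = _
        have : (1 : R') ⊗ₜ[R] algebraMap R A r = algebraMap R' _ (algebraMap R R' r) := by
          rw [Algebra.TensorProduct.algebraMap_apply, Algebra.algebraMap_eq_smul_one,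
            TensorProduct.tmul_smul, TensorProduct.smul_tmul', ← Algebra.algebraMap_eq_smul_one]
          rfl
        rw [this, π.commutes, hcomm, ← hmap, ← IsScalarTower.algebraMap_apply R R' P.ResidueField] }
  have hσ' : ∀ a : A, τ ((1 : P.ResidueField) ⊗ₜ[R'] π ((1 : R') ⊗ₜ[R] a)) ∈
      (algebraMap P.ResidueField Ω).range := by
    intro a
    obtain ⟨r, hr⟩ := hσ σ a
    refine ⟨algebraMap R P.ResidueField r, ?_⟩
    rw [hmap, hr]
    rfl
  induction x using TensorProduct.induction_on with
  | zero => rw [map_zero]; exact Subring.zero_mem _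
  | add x y hx hy => rw [map_add]; exact Subring.add_mem _ hx hy
  | tmul k d =>
    obtain ⟨c, rfl⟩ := hπ d
    have h1 : τ (k ⊗ₜ[R'] π c) = algebraMap P.ResidueField Ω k * τ ((1 : P.ResidueField) ⊗ₜ[R'] π c) := by
      rw [← τ.commutes, ← map_mul, Algebra.TensorProduct.algebraMap_apply]
      simp
    rw [h1]
    refine Subring.mul_mem _ ⟨k, rfl⟩ ?_
    clear h1
    induction c using TensorProduct.induction_on with
    | zero => rw [map_zero, TensorProduct.tmul_zero, map_zero]; exact Subring.zero_mem _
    | add x y hx hy =>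
      rw [map_add, TensorProduct.tmul_add, map_add]
      exact Subring.add_mem _ hx hy
    | tmul r' a =>
      have h2 : r' ⊗ₜ[R] a = algebraMap R' (R' ⊗[R] A) r' * (1 : R') ⊗ₜ[R] a := by
        rw [Algebra.TensorProduct.algebraMap_apply]
        simp
      have h3 : τ ((1 : P.ResidueField) ⊗ₜ[R'] π (r' ⊗ₜ[R] a)) =
          algebraMap P.ResidueField Ω (algebraMap R' P.ResidueField r') *
            τ ((1 : P.ResidueField) ⊗ₜ[R'] π ((1 : R') ⊗ₜ[R] a)) := by
        rw [← hcomm, ← map_mul, h2, map_mul, π.commutes]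
        simp
      rw [h3]
      exact Subring.mul_mem _ ⟨_, rfl⟩ (hσ' a)

/-- Surjectivity after inverting `G`. -/
theorem surj_away {R' : Type u} [CommRing R'] (G : R') (D : Type u) [CommRing D] [Algebra R' D]
    (hc : ∀ d : D, ∃ c : R', G • d = algebraMap R' D c) :
    Function.Surjective (algebraMap (Localization.Away G) (Localization.Away G ⊗[R'] D)) := by
  intro x
  obtain ⟨u, hu⟩ : ∃ u, u * algebraMap R' (Localization.Away G) G = 1 := by
    obtain ⟨u, hu⟩ := (IsLocalization.Away.algebraMap_isUnit (S := Localization.Away G) G)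
    exact ⟨_, by rw [← hu]; exact u.inv_mul⟩
  induction x using TensorProduct.induction_on with
  | zero => exact ⟨0, map_zero _⟩
  | add x y hx hy =>
    obtain ⟨a, rfl⟩ := hx
    obtain ⟨b, rfl⟩ := hy
    exact ⟨a + b, map_add _ _ _⟩
  | tmul k d =>
    obtain ⟨c, hc⟩ := hc d
    refine ⟨k * u * algebraMap _ _ c, ?_⟩
    have h1 : k = (G • (k * u)) := by
      rw [Algebra.smul_def, mul_comm, mul_assoc, hu, mul_one]
    conv_rhs => rw [h1, TensorProduct.smul_tmul, hc]
    rw [Algebra.TensorProduct.algebraMap_apply, Algebra.algebraMap_eq_smul_one c (A := D),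
      TensorProduct.tmul_smul, TensorProduct.smul_tmul', Algebra.smul_def, mul_comm]
    rfl

/-- Localising a decomposition into algebras which are "locally quotients". -/
theorem exists_algEquiv_pi_quotient {R R' A : Type u} [CommRing R] [CommRing R'] [CommRing A]
    [Algebra R R'] [Algebra R A] (G : R') {m : ℕ} (D : Fin m → Type u) [∀ i, CommRing (D i)]
    [∀ i, Algebra R' (D i)] (e₁ : R' ⊗[R] A ≃ₐ[R'] ∀ i, D i)
    (hc : ∀ i, ∀ d : D i, ∃ c : R', G • d = algebraMap R' (D i) c) :
    ∃ I : Fin m → Ideal (Localization.Away G),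
      Nonempty (Localization.Away G ⊗[R] A ≃ₐ[Localization.Away G] ∀ j, Localization.Away G ⧸ I j) := by
  refine ⟨fun i => RingHom.ker (Algebra.ofId (Localization.Away G) (Localization.Away G ⊗[R'] D i)), ⟨?_⟩⟩
  exact (Algebra.TensorProduct.cancelBaseChange R R' (Localization.Away G) (Localization.Away G) A).symm.trans
    ((Algebra.TensorProduct.congr AlgEquiv.refl e₁).trans
      ((Algebra.TensorProduct.piRight R' (Localization.Away G) (Localization.Away G) D).trans
        (AlgEquiv.piCongrRight fun i =>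
          (Ideal.quotientKerAlgEquivOfSurjective (f := Algebra.ofId (Localization.Away G) (Localization.Away G ⊗[R'] D i))
            (surj_away G (D i) (hc i))).symm)))

/-- Splitting when all `Ω`-points are already rational over the base. -/
theorem exists_etale_split_aux {R A Ω : Type u} [CommRing R] [CommRing A] [Field Ω] [IsAlgClosed Ω]
    [Algebra R A] [Algebra R Ω] [Module.Finite R A] [Algebra.FormallyUnramified R A]
    (p : Ideal R) [p.IsPrime] (hp : ∀ x, x ∈ p ↔ algebraMap R Ω x = 0)
    (hσ : ∀ (σ : A →ₐ[R] Ω) (a : A), σ a ∈ (algebraMap R Ω).range) :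
    ∃ (R' : Type u) (_ : CommRing R') (_ : Algebra R R') (_ : Algebra.Etale R R') (P : Ideal R')
      (_ : P.IsPrime) (_ : P.LiesOver p) (n : ℕ) (I : Fin n → Ideal R'),
      Nonempty (R' ⊗[R] A ≃ₐ[R'] ∀ j, R' ⧸ I j) := by
  obtain ⟨R', _, _, _, P, _, _, n, e, he, P', _, _, hP, hP', H⟩ :=
    Algebra.exists_etale_completeOrthogonalIdempotents_forall_liesOver_eq (S := A) p
  let D : Fin (n + 1) → Type u := fun i => (R' ⊗[R] A) ⧸ Ideal.span {1 - e i}
  let π : ∀ i, R' ⊗[R] A →ₐ[R'] D i := fun i => Ideal.Quotient.mkₐ R' (Ideal.span {1 - e i})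
  have hπ : ∀ i, Function.Surjective (π i) := fun i => Ideal.Quotient.mk_surjective
  have hD : ∀ i, Module.Finite R' (D i) := fun i => Module.Finite.of_surjective (π i).toLinearMap (hπ i)
  have hsub : ∀ i, Subsingleton (PrimeSpectrum (P.Fiber (D i))) := by
    intro i
    refine (PrimeSpectrum.preimageEquivFiber R' (D i) ⟨P, inferInstance⟩).symm.subsingleton_congr.mpr ?_
    have key : ∀ Q : PrimeSpectrum.comap (algebraMap R' (D i)) ⁻¹' {⟨P, inferInstance⟩},
        e i ∉ Q.1.asIdeal.comap (π i) ∧ (Q.1.asIdeal.comap (π i)).LiesOver P := by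
      rintro ⟨Q, hQ⟩
      constructor
      · intro h
        have h1 : π i (1 - e i) = 0 := Ideal.Quotient.eq_zero_iff_mem.mpr (Ideal.subset_span rfl)
        have h2 : (1 : D i) ∈ Q.asIdeal := by
          have : (1 : D i) = π i (1 - e i) + π i (e i) := by
            rw [← map_add]; simp
          rw [this, h1, zero_add]
          exact h
        exact Q.isPrime.ne_top ((Ideal.eq_top_iff_one _).mpr h2)
      · constructor
        have := congrArg PrimeSpectrum.asIdeal hQ
        refine this.symm.trans ?_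
        simp only [PrimeSpectrum.comap_asIdeal, Ideal.under]
        rw [← AlgHom.comp_algebraMap (π i)]
        rfl
    constructor
    rintro Q₁ Q₂
    obtain ⟨h11, h12⟩ := key Q₁
    obtain ⟨h21, h22⟩ := key Q₂
    have hcomap : Q₁.1.asIdeal.comap (π i) = Q₂.1.asIdeal.comap (π i) := by
      induction i using Fin.lastCases with
      | last => exact absurd (H _ inferInstance h12).1 h11
      | cast i => rw [(H _ inferInstance h12).2 i h11, (H _ inferInstance h22).2 i h21]
    exact Subtype.ext (PrimeSpectrum.ext (Ideal.comap_injective_of_surjective (π i) (hπ i) hcomap))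
  have hsurj : ∀ i, Function.Surjective (algebraMap P.ResidueField (P.Fiber (D i))) :=
    fun i => key_surj p hp hσ P hP (π i) (hπ i) (hsub i)
  choose g hgP hg using fun i => exists_smul_mem_range P (hsurj i)
  let G := ∏ i, g i
  have hG : G ∉ P := fun h => by
    obtain ⟨i, -, hi⟩ := (Ideal.IsPrime.prod_mem_iff).mp h
    exact hgP i hi
  let Pf := P.map (algebraMap _ (Localization.Away G))
  have : Pf.IsPrime := IsLocalization.isPrime_of_isPrime_disjoint (.powers G) _ _ ‹_› (by
    rwa [Ideal.disjoint_powers_iff_notMem_of_isPrime])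
  have : Pf.LiesOver P := IsLocalization.liesOver_map_of_isPrime_disjoint (.powers G) _ (by
    rwa [Ideal.disjoint_powers_iff_notMem _ (Ideal.IsPrime.isRadical ‹_›)])
  have hc : ∀ i, ∀ d : D i, ∃ c : R', G • d = algebraMap R' (D i) c := by
    intro i d
    obtain ⟨r, hr⟩ := hg i d
    obtain ⟨s, hs⟩ := Finset.dvd_prod_of_mem g (Finset.mem_univ i)
    refine ⟨s * r, ?_⟩
    change (∏ i, g i) • d = _
    rw [hs, mul_comm, mul_smul, hr, map_mul]
    exact Algebra.smul_def (A := D i) s _
  obtain ⟨I, hI⟩ := exists_algEquiv_pi_quotient (R := R) (A := A) G D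
    (AlgEquiv.ofBijective (AlgHom.pi π) he.bijective_pi) hc
  have : Algebra.Etale R (Localization.Away G) := Algebra.Etale.comp R R' _
  exact ⟨Localization.Away G, inferInstance, inferInstance, inferInstance, Pf, inferInstance,
    .trans _ P _, n + 1, I, hI⟩

/-- Stacks 04HJ, algebra form: a finite unramified algebra `A` over `R` becomes, over an étale
neighbourhood of any prime of `R`, a finite product of quotients of the base. -/
theorem exists_etale_split {R A : Type u} [CommRing R] [CommRing A] [Algebra R A] [Module.Finite R A]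
    [Algebra.FormallyUnramified R A] (p : Ideal R) [p.IsPrime] :
    ∃ (R' : Type u) (_ : CommRing R') (_ : Algebra R R') (_ : Algebra.Etale R R') (P : Ideal R')
      (_ : P.IsPrime) (_ : P.LiesOver p) (n : ℕ) (I : Fin n → Ideal R'),
      Nonempty (R' ⊗[R] A ≃ₐ[R'] ∀ j, R' ⧸ I j) := by
  let Ω := AlgebraicClosure p.ResidueField
  obtain ⟨B, _, _, _, β, hβ⟩ := exists_etale_hom_range (R := R) (A := A) (Ω := Ω)
  let : Algebra B Ω := β.toRingHom.toAlgebra
  have : IsScalarTower R B Ω := .of_algebraMap_eq' β.comp_algebraMap.symm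
  have hPB : (RingHom.ker β).IsPrime := RingHom.ker_isPrime β
  have hlies : (RingHom.ker β).LiesOver p := by
    constructor
    ext x
    rw [Ideal.under, Ideal.mem_comap, RingHom.mem_ker, β.commutes, IsScalarTower.algebraMap_apply R p.ResidueField Ω,
      map_eq_zero, Ideal.algebraMap_residueField_eq_zero]
  have hσ : ∀ (σ : B ⊗[R] A →ₐ[B] Ω) (x : B ⊗[R] A), σ x ∈ (algebraMap B Ω).range := by
    intro σ x
    induction x using TensorProduct.induction_on with
    | zero => rw [map_zero]; exact Subring.zero_mem _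
    | add x y hx hy => rw [map_add]; exact Subring.add_mem _ hx hy
    | tmul b a =>
      have h1 : b ⊗ₜ[R] a = algebraMap B (B ⊗[R] A) b * (1 : B) ⊗ₜ[R] a := by
        rw [Algebra.TensorProduct.algebraMap_apply]; simp
      rw [h1, map_mul, σ.commutes]
      refine Subring.mul_mem _ ⟨b, rfl⟩ ?_
      obtain ⟨c, hc⟩ := hβ ((σ.restrictScalars R).comp Algebra.TensorProduct.includeRight) a
      exact ⟨c, hc⟩
  obtain ⟨R', _, _, _, P, _, _, n, I, ⟨e⟩⟩ := exists_etale_split_aux (R := B) (A := B ⊗[R] A) (Ω := Ω)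
    (RingHom.ker β) (fun x => Iff.rfl) hσ
  let : Algebra R R' := ((algebraMap B R').comp (algebraMap R B)).toAlgebra
  have : IsScalarTower R B R' := .of_algebraMap_eq' rfl
  have : Algebra.Etale R R' := Algebra.Etale.comp R B R'
  refine ⟨R', inferInstance, inferInstance, inferInstance, P, inferInstance,
    .trans P (RingHom.ker β) p, n, I, ⟨?_⟩⟩
  exact (Algebra.TensorProduct.cancelBaseChange R B R' R' A).symm.trans e

end Groth.Agent.Etbase.UnramSplit
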