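import Groth.Agent.Etbase.UnramSplit
import Mathlib.AlgebraicGeometry.Morphisms.Etale
import Mathlib.AlgebraicGeometry.Morphisms.Finite
import Mathlib.AlgebraicGeometry.Morphisms.Separated
import Mathlib.AlgebraicGeometry.Morphisms.ClosedImmersion
import Mathlib.AlgebraicGeometry.ResidueField
import Mathlib.AlgebraicGeometry.Noetherian
import Mathlib.Algebra.Category.Ring.Constructions

set_option autoImplicit false
open CategoryTheory CategoryTheory.Limits AlgebraicGeometry Opposite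
universe u

open TensorProduct

namespace Groth.Agent.Etbase.UnramSplitScheme

/-- `∐ Spec Rᵢ ⟶ Spec (Π Rᵢ)` is an isomorphism (index type `Fin n`). -/
theorem isIso_desc_evalRingHom {n : ℕ} (R : Fin n → CommRingCat.{u}) :
    IsIso (Sigma.desc (fun i => Spec.map (CommRingCat.ofHom (Pi.evalRingHom (fun i => R i) i))) :
      (∐ fun i => Spec (R i)) ⟶ Spec (.of (∀ i, R i))) := by
  let e₁ : (∐ (fun i : ULift.{u} (Fin n) => Spec (R i.down))) ≅ (∐ fun i => Spec (R i)) :=
    Sigma.reindex Equiv.ulift (fun i => Spec (R i))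
  let e₂ : (∀ i, R i) ≃+* (∀ i : ULift.{u} (Fin n), R i.down) :=
    { toFun := fun f i => f i.down
      invFun := fun f i => f ⟨i⟩
      left_inv := fun _ => rfl
      right_inv := fun _ => rfl
      map_mul' := fun _ _ => rfl
      map_add' := fun _ _ => rfl }
  have h : e₁.hom ≫ Sigma.desc (fun i => Spec.map (CommRingCat.ofHom (Pi.evalRingHom (fun i => R i) i))) =
      sigmaSpec (fun i : ULift.{u} (Fin n) => R i.down) ≫ Spec.map e₂.toCommRingCatIso.hom := by
    refine Sigma.hom_ext _ _ fun i => ?_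
    rw [ι_sigmaSpec_assoc, ← Spec.map_comp]
    have : Sigma.ι (fun i : ULift.{u} (Fin n) => Spec (R i.down)) i ≫ e₁.hom =
      Sigma.ι (fun i => Spec (R i)) i.down := Sigma.ι_reindex_hom Equiv.ulift (fun i => Spec (R i)) i
    rw [reassoc_of% this, Sigma.ι_desc]
    rfl
  have : IsIso (e₁.hom ≫ Sigma.desc (fun i => Spec.map (CommRingCat.ofHom (Pi.evalRingHom (fun i => R i) i)))) := by
    rw [h]; infer_instance
  exact IsIso.of_isIso_comp_left e₁.hom _

/-- the affine case of 04HJ -/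
theorem affine_case {R A : CommRingCat.{u}} (φ : R ⟶ A) (hfin : φ.hom.Finite)
    (hur : φ.hom.FormallyUnramified) (s : Spec R) :
    ∃ (U : Scheme.{u}) (g : U ⟶ Spec R) (_ : AlgebraicGeometry.Etale g) (u : U) (_ : g.base u = s)
      (n : ℕ) (V : Fin n → Scheme.{u}) (c : ∀ j, V j ⟶ U) (_ : ∀ j, IsClosedImmersion (c j))
      (a : (∐ V) ⟶ Spec A), IsPullback a (Sigma.desc c) (Spec.map φ) g := by
  algebraize [φ.hom]
  obtain ⟨R', _, _, _, P, _, _, n, I, ⟨e⟩⟩ :=
    Groth.Agent.Etbase.UnramSplit.exists_etale_split (R := R) (A := A) s.asIdeal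
  obtain ⟨inr', hinr'⟩ : ∃ f : A ⟶ CommRingCat.of (∀ j, R' ⧸ I j), f = CommRingCat.ofHom ((e.toRingEquiv.toRingHom).comp
        (Algebra.TensorProduct.includeRight : A →ₐ[R] R' ⊗[R] A).toRingHom) := ⟨_, rfl⟩
  have hpush : IsPushout (CommRingCat.ofHom (algebraMap R R')) φ
      (CommRingCat.ofHom (algebraMap R' (∀ j, R' ⧸ I j))) inr' := by
    refine (CommRingCat.isPushout_tensorProduct R R' A).of_iso (Iso.refl _) (Iso.refl _) (Iso.refl _)
      (e.toRingEquiv.toCommRingCatIso) ?_ ?_ ?_ ?_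
    · simp
    · ext; simp; rfl
    · ext x j
      exact congrFun (e.commutes x) j
    · rw [hinr']; ext; simp
  have hpb := isPullback_SpecMap_of_isPushout _ _ _ _ hpush
  obtain ⟨V, hV⟩ : ∃ V : Fin n → Scheme.{u}, V = fun j => Spec (CommRingCat.of (R' ⧸ I j)) := ⟨_, rfl⟩
  subst hV
  obtain ⟨c, hc⟩ : ∃ c : ∀ j, Spec (CommRingCat.of (R' ⧸ I j)) ⟶ Spec (CommRingCat.of R'),
    c = fun j => Spec.map (CommRingCat.ofHom (Ideal.Quotient.mk (I j))) := ⟨_, rfl⟩
  refine ⟨Spec (.of R'), Spec.map (CommRingCat.ofHom (algebraMap R R')), ?_, ⟨P, inferInstance⟩, ?_, n,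
    _, c, ?_, Sigma.desc (fun i => Spec.map (CommRingCat.ofHom (Pi.evalRingHom (fun i => (CommRingCat.of (R' ⧸ I i) : Type u)) i))) ≫
      Spec.map inr', ?_⟩
  · rw [HasRingHomProperty.Spec_iff (P := @AlgebraicGeometry.Etale)]
    exact RingHom.etale_algebraMap.mpr inferInstance
  · exact PrimeSpectrum.ext (Ideal.over_def _ _).symm
  · rw [hc]
    exact fun j => IsClosedImmersion.spec_of_surjective _ Ideal.Quotient.mk_surjective
  · have := isIso_desc_evalRingHom (fun j => CommRingCat.of (R' ⧸ I j))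
    refine IsPullback.of_iso hpb.flip (asIso (Sigma.desc (fun i => Spec.map (CommRingCat.ofHom (Pi.evalRingHom (fun i => (CommRingCat.of (R' ⧸ I i) : Type u)) i))))).symm (Iso.refl _) (Iso.refl _) (Iso.refl _) ?_ ?_ ?_ ?_
    · simp
    · rw [Iso.symm_hom, asIso_inv, Iso.refl_hom, Category.comp_id, IsIso.eq_inv_comp]
      refine Sigma.hom_ext _ _ fun j => ?_
      rw [Sigma.ι_desc_assoc, Sigma.ι_desc, hc, ← Spec.map_comp]
      rfl
    · simp
    · simp

/-- The general case of 04HJ over an affine chart. -/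
theorem chart_case {X S : Scheme.{u}} (f : X ⟶ S) [IsFinite f] [FormallyUnramified f]
    {R : CommRingCat.{u}} (ι : Spec R ⟶ S) [IsOpenImmersion ι] (s' : Spec R) :
    ∃ (U : Scheme.{u}) (g : U ⟶ S) (_ : AlgebraicGeometry.Etale g) (u : U) (_ : g.base u = ι.base s')
      (n : ℕ) (V : Fin n → Scheme.{u}) (c : ∀ j, V j ⟶ U) (_ : ∀ j, IsClosedImmersion (c j))
      (a : (∐ V) ⟶ X), IsPullback a (Sigma.desc c) f g := by
  have hfin : IsFinite (pullback.snd f ι) := inferInstance
  have hur : FormallyUnramified (pullback.snd f ι) :=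
    MorphismProperty.pullback_snd (P := @FormallyUnramified) _ _ inferInstance
  have haff : IsAffine (pullback f ι) := isAffine_of_isAffineHom (pullback.snd f ι)
  obtain ⟨T, hT⟩ : ∃ T, T = pullback f ι := ⟨_, rfl⟩
  subst hT
  obtain ⟨φ, hφ⟩ := Spec.map_surjective ((pullback f ι).isoSpec.inv ≫ pullback.snd f ι)
  have h1 : φ.hom.Finite := by
    rw [← IsFinite.SpecMap_iff, hφ]
    infer_instance
  have h2 : φ.hom.FormallyUnramified := by
    rw [← HasRingHomProperty.Spec_iff (P := @FormallyUnramified), hφ]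
    exact MorphismProperty.comp_mem (W := @FormallyUnramified) _ _ inferInstance hur
  obtain ⟨U, g, hg, u, hu, n, V, c, hc, a, H⟩ := affine_case φ h1 h2 s'
  have H1 : IsPullback (pullback f ι).isoSpec.inv (Spec.map φ) (pullback.snd f ι) (𝟙 _) :=
    IsPullback.of_horiz_isIso ⟨by rw [hφ]; simp⟩
  have H2 : IsPullback (pullback.fst f ι) (pullback.snd f ι) f ι := IsPullback.of_hasPullback f ι
  have H3 := (H.paste_horiz H1).paste_horiz H2
  exact ⟨U, (g ≫ 𝟙 _) ≫ ι, inferInstance, u, by simp [hu], n, V, c, hc, _, H3⟩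

/-- The general case of 04HJ, with an explicit cartesian square. -/
theorem general_case {X S : Scheme.{u}} (f : X ⟶ S) [IsFinite f] [FormallyUnramified f] (s : S) :
    ∃ (U : Scheme.{u}) (g : U ⟶ S) (_ : AlgebraicGeometry.Etale g) (u : U) (_ : g.base u = s)
      (n : ℕ) (V : Fin n → Scheme.{u}) (c : ∀ j, V j ⟶ U) (_ : ∀ j, IsClosedImmersion (c j))
      (a : (∐ V) ⟶ X), IsPullback a (Sigma.desc c) f g := by
  obtain ⟨i, s', rfl⟩ := S.affineCover.exists_eq s
  have : IsOpenImmersion (S.affineCover.f i) := inferInstance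
  exact @chart_case _ _ f _ _ (S.affineOpenCover.X i) (S.affineCover.f i) this s'

end Groth.Agent.Etbase.UnramSplitScheme
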