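import Groth.Agent.Etbase.EtSite
import Groth.Agent.Etbase.LanFlat
import Groth.Prelude.Def_EtZar

/-!
# The morphism `ε : X_et → X_Zar`

* `flat`: `EtZar.zarToEt X` is representably flat;
* `coverPreserving`, `zarCont : EtZar.ZarCont X`;
* `pullZar X : EtZar.Ab X ⥤ EtCoh.Ab X` is `ε⁻¹`, `adj : pullZar X ⊣ EtZar.resZar X`;
* `preservesFiniteLimits_pullZar`: `ε⁻¹` is exact.
-/

set_option autoImplicit false
universe u

open CategoryTheory CategoryTheory.Limits AlgebraicGeometry Opposite TopologicalSpace

namespace Groth.Agent.Etbase.ZarEt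

variable (X : Scheme.{u})

/-- The structure morphism of an étale `X`-scheme. -/
abbrev str {X : Scheme.{u}} (Z : X.Etale) : Z.left ⟶ X := Z.hom

/-- The `X`-morphism `Z ⟶ U` for `Z ⟶ X` with image in `U`. -/
noncomputable def liftOpen {Z : X.Etale} (U : X.Opens)
    (h : Set.range (str Z) ⊆ Set.range U.ι) :
    Z ⟶ (EtZar.zarToEt X).obj U :=
  let l : Z.left ⟶ (U : Scheme.{u}) := IsOpenImmersion.lift U.ι (str Z) h
  have hl : l ≫ U.ι = str Z := IsOpenImmersion.lift_fac U.ι (str Z) h
  MorphismProperty.Over.homMk l hl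

instance subsingleton_hom (Z : X.Etale) (U : X.Opens) :
    Subsingleton (Z ⟶ (EtZar.zarToEt X).obj U) where
  allEq f g := by
    apply MorphismProperty.Over.Hom.ext
    have h1 : f.left ≫ U.ι = str Z := MorphismProperty.Over.w f
    have h2 : g.left ≫ U.ι = str Z := MorphismProperty.Over.w g
    exact (cancel_mono U.ι).mp (h1.trans h2.symm)

theorem range_str_subset {Z : X.Etale} {U : X.Opens} (f : Z ⟶ (EtZar.zarToEt X).obj U) :
    Set.range (str Z) ⊆ (U : Set X) := by
  have h1 : f.left ≫ U.ι = str Z := MorphismProperty.Over.w f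
  have h2 : Set.range (str Z) ⊆ Set.range (U.ι) := by
    rintro _ ⟨z, rfl⟩
    exact ⟨f.left z, (Scheme.Hom.comp_apply _ _ _).symm.trans
      (congrArg (fun p : Z.left ⟶ X => p z) h1)⟩
  rwa [Scheme.Opens.range_ι] at h2

instance flat : RepresentablyFlat (EtZar.zarToEt X) where
  cofiltered Z := by
    have h0 : Nonempty (StructuredArrow Z (EtZar.zarToEt X)) :=
      ⟨StructuredArrow.mk (Y := (⊤ : X.Opens)) (liftOpen X ⊤ (by
        rw [Scheme.Opens.range_ι]
        exact Set.subset_univ _))⟩
    have h1 : IsCofilteredOrEmpty (StructuredArrow Z (EtZar.zarToEt X)) :=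
      { cone_objs := fun a b => by
          have ha := range_str_subset X a.hom
          have hb := range_str_subset X b.hom
          let c : StructuredArrow Z (EtZar.zarToEt X) :=
            StructuredArrow.mk (Y := (a.right ⊓ b.right : X.Opens)) (liftOpen X _ (by
              rw [Scheme.Opens.range_ι]
              exact Set.subset_inter ha hb))
          exact ⟨c, StructuredArrow.homMk (homOfLE inf_le_left) (Subsingleton.elim _ _),
            StructuredArrow.homMk (homOfLE inf_le_right) (Subsingleton.elim _ _), trivial⟩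
        cone_maps := fun a b f g => ⟨a, 𝟙 _, by
          apply StructuredArrow.hom_ext
          exact Subsingleton.elim _ _⟩ }
    exact { toIsCofilteredOrEmpty := h1, nonempty := h0 }

theorem apply_of_comp_eq {A B C : Scheme.{u}} (p : A ⟶ B) (q : B ⟶ C) (r : A ⟶ C)
    (e : p ≫ q = r) (a : A) : q (p a) = r a := by
  subst e; rfl

theorem coverPreserving : CoverPreserving (Opens.grothendieckTopology X) X.smallEtaleTopology
    (EtZar.zarToEt X) where
  cover_preserve {V R} h := by
    rw [EtSite.mem_iff]
    intro x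
    obtain ⟨W, i, hi, hx⟩ := h x.1 x.2
    refine ⟨_, (EtZar.zarToEt X).map i, ⟨x.1, hx⟩, Sieve.image_mem_functorPushforward _ _ hi, ?_⟩
    apply (Scheme.Opens.ι V).isOpenEmbedding.injective
    have h1 : ((EtZar.zarToEt X).map i).left ≫ Scheme.Opens.ι V = Scheme.Opens.ι W :=
      MorphismProperty.Over.w _
    exact apply_of_comp_eq _ _ _ h1 _

/-- Continuity of `X_et → X_Zar` holds. -/
instance zarCont : EtZar.ZarCont X :=
  Functor.isContinuous_of_coverPreserving (compatiblePreservingOfFlat _ _) (coverPreserving X)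

/-- Inverse image along `X_et → X_Zar`. -/
noncomputable abbrev pullZar : EtZar.Ab X ⥤ EtCoh.Ab X :=
  (EtZar.zarToEt X).sheafPullback AddCommGrpCat.{u + 1} (Opens.grothendieckTopology X)
    X.smallEtaleTopology

/-- The adjunction `ε⁻¹ ⊣ ε_*`. -/
noncomputable abbrev adj : pullZar X ⊣ EtZar.resZar X :=
  (EtZar.zarToEt X).sheafAdjunctionContinuous AddCommGrpCat.{u + 1} (Opens.grothendieckTopology X)
    X.smallEtaleTopology

instance preservesFiniteLimits_pullZar : PreservesFiniteLimits (pullZar X) := by
  have hfl : ∀ K : (X.Etale)ᵒᵖ, IsFiltered (CostructuredArrow (EtZar.zarToEt X).op K) := fun K =>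
    IsFiltered.of_equivalence (structuredArrowOpEquivalence (EtZar.zarToEt X) (unop K))
  have : ∀ K : (X.Etale)ᵒᵖ, HasColimitsOfShape (CostructuredArrow (EtZar.zarToEt X).op K)
      AddCommGrpCat.{u + 1} := fun K => inferInstance
  have : PreservesFiniteLimits ((EtZar.zarToEt X).op.lan :
      (_ ⥤ AddCommGrpCat.{u + 1}) ⥤ (X.Etale)ᵒᵖ ⥤ AddCommGrpCat.{u + 1}) :=
    Groth.Agent.Etbase.LanFlat.preservesFiniteLimits_op_lan _ _ (fun K => by
      have := hfl K
      have : HasFilteredColimitsOfSize.{u, u} AddCommGrpCat.{u + 1} :=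
        hasFilteredColimitsOfSize_shrink.{u, u, u + 1, u + 1}
      have : AB5OfSize.{u, u} AddCommGrpCat.{u + 1} := AB5OfSize_shrink.{u, u, u + 1, u + 1} _
      exact HasExactColimitsOfShape.preservesFiniteLimits)
  exact Functor.sheafPullbackConstruction.preservesFiniteLimits _ _ _ _

instance preservesFiniteColimits_pullZar : PreservesFiniteColimits (pullZar X) :=
  (adj X).leftAdjoint_preservesColimits.{0, 0}.preservesFiniteColimits

instance additive_resZar : (EtZar.resZar X).Additive where

instance additive_pullZar : (pullZar X).Additive := (adj X).left_adjoint_additive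

end Groth.Agent.Etbase.ZarEt
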