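import Groth.Agent.Etbase.ZarEt
import Groth.Agent.Etbase.EtCartan
import Groth.Agent.Etbase.ExtCompare
import Groth.Agent.CurvesA.SiteZU

/-!
# Comparison of Zariski and étale cohomology of sheaves acyclic on affines

* `cmp_bijective`: `Ext^n(A, ε_* F) ≃ Ext^n(ε⁻¹ A, F)` for `F` with `EtAcyc F.obj`;
* `pullZU X V : ZE V ≅ ε⁻¹ (ZZ V)`, natural in the open `V`.
-/

set_option autoImplicit false
universe u

open CategoryTheory CategoryTheory.Limits AlgebraicGeometry Opposite TopologicalSpace

namespace Groth.Agent.Etbase.ZarEtCmp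

open Groth.Agent.Etbase.ZarEt Groth.Agent.Etbase.ExtCompare Groth.Agent.Etbase.EtCartan
  Groth.Agent.CurvesA

instance wlbZar (X : Scheme.{u}) :
    (Opens.grothendieckTopology X).WEqualsLocallyBijective AddCommGrpCat.{u + 1} := by
  have h1 : ((equivSmallModel.{u + 1} X.Opens).inverse.inducedTopology
    (Opens.grothendieckTopology X)).WEqualsLocallyBijective AddCommGrpCat.{u + 1} := inferInstance
  have h2 : ∀ (Y : X.Opensᵒᵖ), HasLimitsOfShape
    (StructuredArrow Y (equivSmallModel.{u + 1} X.Opens).inverse.op)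
    AddCommGrpCat.{u + 1} := inferInstance
  exact GrothendieckTopology.WEqualsLocallyBijective.ofEssentiallySmall _

variable {X : Scheme.{u}}

/-- A morphism of étale sheaves which is surjective over all affine étale `X`-schemes is an
epimorphism of Zariski sheaves. -/
theorem epi_resZar {I Q : EtCoh.Ab X} (q : I ⟶ Q)
    (h : ∀ U : X.Etale, IsAffine U.left → Function.Surjective (q.hom.app (op U))) :
    Epi ((EtZar.resZar X).map q) := by
  rw [← Sheaf.isLocallySurjective_iff_epi']
  refine ⟨fun {U} s x hx => ?_⟩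
  obtain ⟨_, ⟨W, hW, rfl⟩, hxW, hWU⟩ :=
    X.isBasis_affineOpens.exists_subset_of_mem_open hx U.isOpen
  refine ⟨W, homOfLE hWU, ?_, hxW⟩
  exact h ((EtZar.zarToEt X).obj W) hW _

/-- `Ext^n(A, ε_* F) ≃ Ext^n(ε⁻¹ A, F)` for sheaves with vanishing Čech cohomology over affines. -/
theorem cmp_bijective (A : EtZar.Ab X) (F : EtCoh.Ab X) (hF : EtAcyc F.obj) (n : ℕ) :
    Function.Bijective (cmp (pullZar X) A ((adj X).counit.app F) n) := by
  refine cmp_counit_bijective (pullZar X) (adj X) A (fun F => EtAcyc F.obj) ?_ n F hF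
  intro F hF
  let P : InjectivePresentation F := Classical.arbitrary _
  have hS : (ShortComplex.mk P.f (cokernel.π P.f) (cokernel.condition P.f)).ShortExact :=
    { exact := ShortComplex.exact_cokernel P.f }
  have := P.injective
  have h := etAcyc_step P.f (cokernel.π P.f) (cokernel.condition P.f) hS hF
  exact ⟨P.J, cokernel P.f, P.f, cokernel.π P.f, cokernel.condition P.f, hS, P.injective,
    epi_resZar _ h.1, h.2⟩

variable (X)

/-- The free abelian Zariski sheaves on opens (values one universe up). -/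
noncomputable abbrev ZZ : X.Opens ⥤ EtZar.Ab X := SiteZU.ZU.{u + 1} (Opens.grothendieckTopology X)

/-- The free abelian étale sheaves on étale `X`-schemes. -/
noncomputable abbrev ZE : X.Etale ⥤ EtCoh.Ab X := SiteZU.ZU.{u + 1} X.smallEtaleTopology

/-- `Z_V → ε⁻¹ Z_V`. -/
noncomputable def toPull (V : X.Opens) :
    (ZE X).obj ((EtZar.zarToEt X).obj V) ⟶ (pullZar X).obj ((ZZ X).obj V) :=
  SiteZU.lift.{u + 1} (SiteZU.ev.{u + 1} (J := Opens.grothendieckTopology X) (U := V)
    (F := (EtZar.resZar X).obj ((pullZar X).obj ((ZZ X).obj V)))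
    ((adj X).unit.app ((ZZ X).obj V)))

/-- `ε⁻¹ Z_V → Z_V`. -/
noncomputable def fromPull (V : X.Opens) :
    (pullZar X).obj ((ZZ X).obj V) ⟶ (ZE X).obj ((EtZar.zarToEt X).obj V) :=
  ((adj X).homEquiv _ _).symm (SiteZU.lift.{u + 1} (J := Opens.grothendieckTopology X) (U := V)
    (F := (EtZar.resZar X).obj ((ZE X).obj ((EtZar.zarToEt X).obj V)))
    (SiteZU.univ.{u + 1} (J := X.smallEtaleTopology) ((EtZar.zarToEt X).obj V)))

/-- Key formula: evaluation of the adjoint map. -/
theorem ev_toPull_comp (V : X.Opens) {F : EtCoh.Ab X} (φ : (pullZar X).obj ((ZZ X).obj V) ⟶ F) :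
    SiteZU.ev.{u + 1} (toPull X V ≫ φ) =
      (SiteZU.ev.{u + 1} (J := Opens.grothendieckTopology X) (U := V)
        (F := (EtZar.resZar X).obj F) ((adj X).homEquiv _ _ φ) :) := by
  rw [SiteZU.ev_comp, toPull, SiteZU.ev_lift, Adjunction.homEquiv_unit, SiteZU.ev_comp]
  rfl

theorem toPull_fromPull (V : X.Opens) : toPull X V ≫ fromPull X V = 𝟙 _ := by
  apply SiteZU.ev_injective.{u + 1}
  rw [ev_toPull_comp, fromPull, Equiv.apply_symm_apply, SiteZU.ev_lift]
  rfl

theorem fromPull_toPull (V : X.Opens) : fromPull X V ≫ toPull X V = 𝟙 _ := by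
  apply ((adj X).homEquiv _ _).injective
  apply SiteZU.ev_injective.{u + 1}
  rw [← ev_toPull_comp, ← ev_toPull_comp, ← Category.assoc, toPull_fromPull, Category.id_comp,
    Category.comp_id]

/-- `Z_V ≅ ε⁻¹ Z_V` for every open `V`. -/
noncomputable def pullZU (V : X.Opens) :
    (ZE X).obj ((EtZar.zarToEt X).obj V) ≅ (pullZar X).obj ((ZZ X).obj V) where
  hom := toPull X V
  inv := fromPull X V
  hom_inv_id := toPull_fromPull X V
  inv_hom_id := fromPull_toPull X V

theorem toPull_naturality {V W : X.Opens} (i : V ⟶ W) :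
    (ZE X).map ((EtZar.zarToEt X).map i) ≫ toPull X W =
      toPull X V ≫ (pullZar X).map ((ZZ X).map i) := by
  apply SiteZU.ev_injective.{u + 1}
  rw [ev_toPull_comp, SiteZU.ev_map_comp, toPull, SiteZU.ev_lift, Adjunction.homEquiv_unit]
  have h1 := (adj X).unit_naturality ((ZZ X).map i)
  have h2 := SiteZU.ev_map_comp.{u + 1} (J := Opens.grothendieckTopology X) i
    (F := (EtZar.resZar X).obj ((pullZar X).obj ((ZZ X).obj W)))
    ((adj X).unit.app ((ZZ X).obj W))
  exact h2.symm.trans (congrArg (fun t => SiteZU.ev.{u + 1} t) h1).symm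

end Groth.Agent.Etbase.ZarEtCmp
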