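import Groth.Agent.Etbase.ZarEtCmp
import Groth.Agent.Etbase.ExtCompare2
import Groth.Agent.Etbase.SheafULift

/-!
# Comparison of Zariski cohomology (small universe) and étale cohomology

`comp V θ n : Ext^n(Z_V, M) →+ Ext^n(Z_{V → X}, F)` for a Zariski abelian sheaf `M`, an étale
abelian sheaf `F`, and `θ : ul M ⟶ ε_* F`.
-/

set_option autoImplicit false
universe u

open CategoryTheory CategoryTheory.Limits AlgebraicGeometry Opposite TopologicalSpace
  CategoryTheory.Abelian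

namespace Groth.Agent.Etbase.ZarEtCoh

open Groth.Agent.Etbase.ZarEt Groth.Agent.Etbase.ExtCompare Groth.Agent.Etbase.EtCartan
  Groth.Agent.CurvesA Groth.Agent.Etbase.ZarEtCmp Groth.Agent.Etbase.SheafULift

instance hasSheafifyU (X : Scheme.{u}) :
    HasSheafify (Opens.grothendieckTopology X) AddCommGrpCat.{u} := inferInstance

instance wlbU (X : Scheme.{u}) :
    (Opens.grothendieckTopology X).WEqualsLocallyBijective AddCommGrpCat.{u} := inferInstance

instance grothU (X : Scheme.{u}) :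
    IsGrothendieckAbelian.{u} (Sheaf (Opens.grothendieckTopology X) AddCommGrpCat.{u}) :=
  Sheaf.isGrothendieckAbelian_of_essentiallySmall _ _

variable (X : Scheme.{u})

/-- The universe lift of Zariski sheaves. -/
noncomputable abbrev ulZ :
    Sheaf (Opens.grothendieckTopology X) AddCommGrpCat.{u} ⥤ EtZar.Ab X :=
  UL (Opens.grothendieckTopology X)

/-- The free abelian Zariski sheaves on opens (small universe). -/
noncomputable abbrev ZS :
    X.Opens ⥤ Sheaf (Opens.grothendieckTopology X) AddCommGrpCat.{u} :=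
  SiteZU.ZU.{u} (Opens.grothendieckTopology X)

instance hasExtU : HasExt.{u} (Sheaf (Opens.grothendieckTopology X) AddCommGrpCat.{u}) :=
  inferInstance

instance hasExtZ : HasExt.{u + 1} (Sheaf (Opens.grothendieckTopology X) AddCommGrpCat.{u + 1}) :=
  inferInstance

instance hasExtE : HasExt.{u + 1} (Sheaf X.smallEtaleTopology AddCommGrpCat.{u + 1}) :=
  inferInstance

variable {X}

/-- General form of the comparison map `Ext^n(S, M) → Ext^n(E, F)` attached to `θ : ul M ⟶ ε_* F`,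
`a : E ⟶ ε⁻¹ Z` and `b : Z ⟶ ul S`. -/
noncomputable def compG {S : Sheaf (Opens.grothendieckTopology X) AddCommGrpCat.{u}}
    {Z : Sheaf (Opens.grothendieckTopology X) AddCommGrpCat.{u + 1}}
    {E : Sheaf X.smallEtaleTopology AddCommGrpCat.{u + 1}}
    (a : E ⟶ (pullZar X).obj Z) (b : Z ⟶ (ulZ X).obj S)
    {M : Sheaf (Opens.grothendieckTopology X) AddCommGrpCat.{u}}
    {F : Sheaf X.smallEtaleTopology AddCommGrpCat.{u + 1}}
    (θ : (ulZ X).obj M ⟶ (EtZar.resZar X).obj F) (n : ℕ) :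
    Ext.{u} S M n →+ Ext.{u + 1} E F n :=
  (cmp₂.{u + 1, u + 1} (pullZar X) a ((adj X).counit.app F) n).comp
    (cmp₂.{u, u + 1} (ulZ X) b θ n)

theorem compG_bijective {S : Sheaf (Opens.grothendieckTopology X) AddCommGrpCat.{u}}
    {Z : Sheaf (Opens.grothendieckTopology X) AddCommGrpCat.{u + 1}}
    {E : Sheaf X.smallEtaleTopology AddCommGrpCat.{u + 1}}
    (a : E ⟶ (pullZar X).obj Z) (b : Z ⟶ (ulZ X).obj S) [IsIso a] [IsIso b]
    {M : Sheaf (Opens.grothendieckTopology X) AddCommGrpCat.{u}}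
    {F : Sheaf X.smallEtaleTopology AddCommGrpCat.{u + 1}}
    (θ : (ulZ X).obj M ⟶ (EtZar.resZar X).obj F) [IsIso θ] (hF : EtAcyc F.obj) (n : ℕ) :
    Function.Bijective (compG a b θ n) := by
  have h0 := mapExt_bijective.{u, u, u + 1} (Opens.grothendieckTopology X) S M n
  have h1 : Function.Bijective (cmp₂.{u, u + 1} (ulZ X) b θ n) :=
    cmp₂_bijective _ _ _ _ (cmp_bijective_of_isIso _ _ _ _ h0)
  have h2 : Function.Bijective (cmp₂.{u + 1, u + 1} (pullZar X) a ((adj X).counit.app F) n) :=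
    cmp₂_bijective _ _ _ _ (cmp_bijective _ F hF n)
  exact h2.comp h1

/-- Naturality in the coefficients. -/
theorem compG_postcomp {S : Sheaf (Opens.grothendieckTopology X) AddCommGrpCat.{u}}
    {Z : Sheaf (Opens.grothendieckTopology X) AddCommGrpCat.{u + 1}}
    {E : Sheaf X.smallEtaleTopology AddCommGrpCat.{u + 1}}
    (a : E ⟶ (pullZar X).obj Z) (b : Z ⟶ (ulZ X).obj S)
    {M M' : Sheaf (Opens.grothendieckTopology X) AddCommGrpCat.{u}}
    {F F' : Sheaf X.smallEtaleTopology AddCommGrpCat.{u + 1}}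
    (θ : (ulZ X).obj M ⟶ (EtZar.resZar X).obj F)
    (θ' : (ulZ X).obj M' ⟶ (EtZar.resZar X).obj F') (α : M ⟶ M') (β : F ⟶ F')
    (h : (ulZ X).map α ≫ θ' = θ ≫ (EtZar.resZar X).map β) (n : ℕ) (x : Ext.{u} S M n) :
    compG a b θ' n (x.comp (Ext.mk₀ α) (add_zero n)) =
      (compG a b θ n x).comp (Ext.mk₀ β) (add_zero n) := by
  have h1 := cmp₂_postcomp.{u, u + 1} (ulZ X) b θ θ' α _ h n x
  have h2 := cmp₂_postcomp.{u + 1, u + 1} (pullZar X) a ((adj X).counit.app F)
    ((adj X).counit.app F') ((EtZar.resZar X).map β) β ((adj X).counit_naturality β) n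
    (cmp₂.{u, u + 1} (ulZ X) b θ n x)
  exact (congrArg (cmp₂.{u + 1, u + 1} (pullZar X) a ((adj X).counit.app F') n) h1).trans h2

/-- Naturality in the first variable. -/
theorem compG_precomp {S S' : Sheaf (Opens.grothendieckTopology X) AddCommGrpCat.{u}}
    {Z Z' : Sheaf (Opens.grothendieckTopology X) AddCommGrpCat.{u + 1}}
    {E E' : Sheaf X.smallEtaleTopology AddCommGrpCat.{u + 1}}
    (a : E ⟶ (pullZar X).obj Z) (b : Z ⟶ (ulZ X).obj S)
    (a' : E' ⟶ (pullZar X).obj Z') (b' : Z' ⟶ (ulZ X).obj S')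
    (s : S ⟶ S') (z : Z ⟶ Z') (e : E ⟶ E') (hb : b ≫ (ulZ X).map s = z ≫ b')
    (ha : a ≫ (pullZar X).map z = e ≫ a')
    {M : Sheaf (Opens.grothendieckTopology X) AddCommGrpCat.{u}}
    {F : Sheaf X.smallEtaleTopology AddCommGrpCat.{u + 1}}
    (θ : (ulZ X).obj M ⟶ (EtZar.resZar X).obj F) (n : ℕ) (x : Ext.{u} S' M n) :
    compG a b θ n ((Ext.mk₀ s).comp x (zero_add n)) =
      (Ext.mk₀ e).comp (compG a' b' θ n x) (zero_add n) := by
  have h1 := cmp₂_precomp.{u, u + 1} (ulZ X) b b' s z hb θ n x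
  have h2 := cmp₂_precomp.{u + 1, u + 1} (pullZar X) a a' z e ha ((adj X).counit.app F) n
    (cmp₂.{u, u + 1} (ulZ X) b' θ n x)
  exact (congrArg (cmp₂.{u + 1, u + 1} (pullZar X) a ((adj X).counit.app F) n) h1).trans h2

/-- Compatibility with connecting homomorphisms. -/
theorem compG_extClass {S : Sheaf (Opens.grothendieckTopology X) AddCommGrpCat.{u}}
    {Z : Sheaf (Opens.grothendieckTopology X) AddCommGrpCat.{u + 1}}
    {E : Sheaf X.smallEtaleTopology AddCommGrpCat.{u + 1}}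
    (a : E ⟶ (pullZar X).obj Z) (b : Z ⟶ (ulZ X).obj S)
    {M₁ M₂ M₃ : Sheaf (Opens.grothendieckTopology X) AddCommGrpCat.{u}}
    {i : M₁ ⟶ M₂} {p : M₂ ⟶ M₃} {wM : i ≫ p = 0} (hM : (ShortComplex.mk i p wM).ShortExact)
    {F₁ F₂ F₃ : Sheaf X.smallEtaleTopology AddCommGrpCat.{u + 1}}
    {j : F₁ ⟶ F₂} {q : F₂ ⟶ F₃} {wF : j ≫ q = 0} (hF : (ShortComplex.mk j q wF).ShortExact)
    (hres : (ShortComplex.mk ((EtZar.resZar X).map j) ((EtZar.resZar X).map q)
      (by rw [← CategoryTheory.Functor.map_comp, wF, CategoryTheory.Functor.map_zero])).ShortExact)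
    (θ₁ : (ulZ X).obj M₁ ⟶ (EtZar.resZar X).obj F₁)
    (θ₂ : (ulZ X).obj M₂ ⟶ (EtZar.resZar X).obj F₂)
    (θ₃ : (ulZ X).obj M₃ ⟶ (EtZar.resZar X).obj F₃)
    (h12 : (ulZ X).map i ≫ θ₂ = θ₁ ≫ (EtZar.resZar X).map j)
    (h23 : (ulZ X).map p ≫ θ₃ = θ₂ ≫ (EtZar.resZar X).map q) (n : ℕ) (x : Ext.{u} S M₃ n) :
    compG a b θ₁ (n + 1) (x.comp hM.extClass rfl) =
      (compG a b θ₃ n x).comp hF.extClass rfl := by
  have h1 := cmp₂_extClass.{u, u + 1} (ulZ X) b hM hres θ₁ θ₂ θ₃ h12 h23 n x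
  have h2 := cmp₂_extClass.{u + 1, u + 1} (pullZar X) a hres hF ((adj X).counit.app F₁)
    ((adj X).counit.app F₂) ((adj X).counit.app F₃) ((adj X).counit_naturality j)
    ((adj X).counit_naturality q) n (cmp₂.{u, u + 1} (ulZ X) b θ₃ n x)
  exact (congrArg (cmp₂.{u + 1, u + 1} (pullZar X) a ((adj X).counit.app F₁) (n + 1)) h1).trans h2

/-- The comparison map `Ext^n(Z_V, M) → Ext^n(Z_{V → X}, F)` attached to `θ : ul M ⟶ ε_* F`
(see `compG_bijective`, `compG_postcomp`). -/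
noncomputable abbrev comp (V : X.Opens)
    {M : Sheaf (Opens.grothendieckTopology X) AddCommGrpCat.{u}}
    {F : Sheaf X.smallEtaleTopology AddCommGrpCat.{u + 1}}
    (θ : (ulZ X).obj M ⟶ (EtZar.resZar X).obj F) (n : ℕ) :
    Ext.{u} ((ZS X).obj V) M n →+ Ext.{u + 1} ((ZE X).obj ((EtZar.zarToEt X).obj V)) F n :=
  compG (toPull X V) (zuUl (Opens.grothendieckTopology X) V).hom θ n

instance isIso_toPull (V : X.Opens) : IsIso (toPull X V) := (pullZU X V).isIso_hom

/-- Naturality in the open. -/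
theorem comp_precomp {V W : X.Opens} (i : V ⟶ W)
    {M : Sheaf (Opens.grothendieckTopology X) AddCommGrpCat.{u}}
    {F : Sheaf X.smallEtaleTopology AddCommGrpCat.{u + 1}}
    (θ : (ulZ X).obj M ⟶ (EtZar.resZar X).obj F) (n : ℕ)
    (x : Ext.{u} ((ZS X).obj W) M n) :
    comp V θ n ((Ext.mk₀ ((ZS X).map i)).comp x (zero_add n)) =
      (Ext.mk₀ ((ZE X).map ((EtZar.zarToEt X).map i))).comp (comp W θ n x) (zero_add n) :=
  compG_precomp (toPull X V) (zuUl (Opens.grothendieckTopology X) V).hom (toPull X W)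
    (zuUl (Opens.grothendieckTopology X) W).hom ((ZS X).map i) ((ZZ X).map i)
    ((ZE X).map ((EtZar.zarToEt X).map i)) (zuUl_naturality _ i).symm
    (toPull_naturality X i).symm θ n x

end Groth.Agent.Etbase.ZarEtCoh
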