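import Groth.Agent.Etbase.ZarEtCoh

/-!
# Comparison of Zariski cohomology and étale cohomology (global version)

`compH θ n : Sheaf.H M n →+ Sheaf.H F n` for a Zariski abelian sheaf `M`, an étale
abelian sheaf `F`, and `θ : ul M ⟶ ε_* F`.
-/

set_option autoImplicit false
universe u

open CategoryTheory CategoryTheory.Limits AlgebraicGeometry Opposite TopologicalSpace
  CategoryTheory.Abelian

namespace Groth.Agent.Etbase.ZarEtH

open Groth.Agent.Etbase.ZarEt Groth.Agent.Etbase.ExtCompare Groth.Agent.Etbase.EtCartan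
  Groth.Agent.CurvesA Groth.Agent.Etbase.ZarEtCmp Groth.Agent.Etbase.SheafULift
  Groth.Agent.Etbase.ZarEtCoh

variable (X : Scheme.{u})

/-- The open `⊤` is terminal in the small étale site. -/
noncomputable def topE : IsTerminal ((EtZar.zarToEt X).obj ⊤) :=
  IsTerminal.ofUniqueHom (fun _ => liftOpen X ⊤ (by
    rw [Scheme.Opens.range_ι]
    exact Set.subset_univ _)) (fun _ _ => Subsingleton.elim _ _)

/-- The open `⊤` is terminal. -/
def topZ : IsTerminal (⊤ : X.Opens) := isTerminalTop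

/-- The constant sheaf `ℤ` (small universe, Zariski). -/
noncomputable abbrev cS : Sheaf (Opens.grothendieckTopology X) AddCommGrpCat.{u} :=
  (constantSheaf (Opens.grothendieckTopology X) AddCommGrpCat.{u}).obj
    (AddCommGrpCat.of (ULift.{u} ℤ))

/-- The constant sheaf `ℤ` (big universe, Zariski). -/
noncomputable abbrev cZ : Sheaf (Opens.grothendieckTopology X) AddCommGrpCat.{u + 1} :=
  (constantSheaf (Opens.grothendieckTopology X) AddCommGrpCat.{u + 1}).obj
    (AddCommGrpCat.of (ULift.{u + 1} ℤ))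

/-- The constant sheaf `ℤ` (étale). -/
noncomputable abbrev cE : Sheaf X.smallEtaleTopology AddCommGrpCat.{u + 1} :=
  (constantSheaf X.smallEtaleTopology AddCommGrpCat.{u + 1}).obj
    (AddCommGrpCat.of (ULift.{u + 1} ℤ))

/-- `ul ℤ = ℤ`. -/
noncomputable def cZS : cZ X ≅ (ulZ X).obj (cS X) :=
  (SiteZU.constIso.{u + 1} (Opens.grothendieckTopology X) (topZ X)).symm ≪≫
    zuUl (Opens.grothendieckTopology X) ⊤ ≪≫
    (ulZ X).mapIso (SiteZU.constIso.{u} (Opens.grothendieckTopology X) (topZ X))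

/-- `ε⁻¹ ℤ = ℤ`. -/
noncomputable def cEZ : cE X ≅ (pullZar X).obj (cZ X) :=
  (SiteZU.constIso.{u + 1} X.smallEtaleTopology (topE X)).symm ≪≫ pullZU X ⊤ ≪≫
    (pullZar X).mapIso (SiteZU.constIso.{u + 1} (Opens.grothendieckTopology X) (topZ X))

variable {X}

/-- The comparison map `H^n(X, M) → H^n(X_et, F)` attached to `θ : ul M ⟶ ε_* F`. -/
noncomputable def compH {M : Sheaf (Opens.grothendieckTopology X) AddCommGrpCat.{u}}
    {F : Sheaf X.smallEtaleTopology AddCommGrpCat.{u + 1}}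
    (θ : (ulZ X).obj M ⟶ (EtZar.resZar X).obj F) (n : ℕ) :
    Sheaf.H.{u} M n →+ Sheaf.H.{u + 1} F n :=
  compG (cEZ X).hom (cZS X).hom θ n

theorem compH_bijective {M : Sheaf (Opens.grothendieckTopology X) AddCommGrpCat.{u}}
    {F : Sheaf X.smallEtaleTopology AddCommGrpCat.{u + 1}}
    (θ : (ulZ X).obj M ⟶ (EtZar.resZar X).obj F) [IsIso θ] (hF : EtAcyc F.obj) (n : ℕ) :
    Function.Bijective (compH θ n) :=
  compG_bijective (cEZ X).hom (cZS X).hom θ hF n

/-- Naturality in the coefficients. -/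
theorem compH_map {M M' : Sheaf (Opens.grothendieckTopology X) AddCommGrpCat.{u}}
    {F F' : Sheaf X.smallEtaleTopology AddCommGrpCat.{u + 1}}
    (θ : (ulZ X).obj M ⟶ (EtZar.resZar X).obj F)
    (θ' : (ulZ X).obj M' ⟶ (EtZar.resZar X).obj F') (α : M ⟶ M') (β : F ⟶ F')
    (h : (ulZ X).map α ≫ θ' = θ ≫ (EtZar.resZar X).map β) (n : ℕ) (x : Sheaf.H.{u} M n) :
    compH θ' n (Sheaf.H.map α n x) = Sheaf.H.map β n (compH θ n x) :=
  compG_postcomp (cEZ X).hom (cZS X).hom θ θ' α β h n x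

end Groth.Agent.Etbase.ZarEtH
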